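import Groth.Agent.Lib.Lead.FBC.Final

/-! # Flat base change over an affine base: the final statement. -/

universe u
open CategoryTheory Limits Opposite Abelian TopologicalSpace AlgebraicGeometry TensorProduct

namespace Groth.Agent.LD.FBC
open Groth.Agent.LD.SC Groth.Agent.LD.QC

variable {X' X : Scheme.{u}} (g' : X' ⟶ X)
variable {A B : Type u} [CommRing A] [CommRing B] [Algebra A B] [Module.Flat A B]
variable (f : X ⟶ Spec (CommRingCat.of A)) (f' : X' ⟶ Spec (CommRingCat.of B))
  (h : IsPullback g' f' f (Spec.map (CommRingCat.ofHom (algebraMap A B))))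

include h in
/-- **Flat base change over an affine base.** -/
theorem flat_base_change [CompactSpace X] [QuasiSeparatedSpace X] (F : X.Modules)
    [F.IsQuasicoherent] (i : ℕ) :
    letI : Module A (Coh.HH X F i) := Module.compHom _ (Coh.toGlobal f)
    letI : Module B (Coh.HH X' ((Scheme.Modules.pullback g').obj F) i) :=
      Module.compHom _ (Coh.toGlobal f')
    Nonempty (TensorProduct A B (Coh.HH X F i) ≃ₗ[B]
      Coh.HH X' ((Scheme.Modules.pullback g').obj F) i) := by
  letI mA : Module A (Coh.HH X F i) := Module.compHom _ (Coh.toGlobal f)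
  letI mB : Module B (Coh.HH X' ((Scheme.Modules.pullback g').obj F) i) :=
    Module.compHom _ (Coh.toGlobal f')
  have hτ := toGlobal_compat f f' g' h
  have hP : Function.Bijective (Θ g' F (Coh.toGlobal f) (Coh.toGlobal f') hτ ⊤ i) :=
    PU_of_isCompact f f' g' h F ⊤ (by simpa using isCompact_univ)
      (by simpa using isQuasiSeparated_univ) i
  let e₁ := HHEquivExtA F (Coh.toGlobal f) i
  let Ψ : B ⊗[A] Coh.HH X F i →+ Coh.HH X' ((Scheme.Modules.pullback g').obj F) i :=
    (extLZUTopEquiv g' _ i).toAddMonoidHom.comp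
      ((Θ g' F (Coh.toGlobal f) (Coh.toGlobal f') hτ ⊤ i).comp
        (e₁.toLinearMap.lTensor B).toAddMonoidHom)
  have hΨ : Function.Bijective Ψ :=
    (extLZUTopEquiv g' _ i).bijective.comp (hP.comp (e₁.lTensor B).bijective)
  have hlin : ∀ (b' : B) (z : B ⊗[A] Coh.HH X F i), Ψ (b' • z) = b' • Ψ z := by
    intro b' z
    induction z using TensorProduct.induction_on with
    | zero => rw [smul_zero, map_zero, smul_zero]
    | add x y hx hy => rw [smul_add, map_add, hx, hy, map_add, smul_add]
    | tmul b x =>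
      rw [TensorProduct.smul_tmul', smul_eq_mul]
      change extLZUTopEquiv g' _ i (Θ g' F (Coh.toGlobal f) (Coh.toGlobal f') hτ ⊤ i
          ((b' * b) ⊗ₜ e₁ x)) =
        Sheaf.H.map (Coh.smulAb _ (Coh.toGlobal f' b')) i
          (extLZUTopEquiv g' _ i (Θ g' F (Coh.toGlobal f) (Coh.toGlobal f') hτ ⊤ i (b ⊗ₜ e₁ x)))
      rw [← extLZUTopEquiv_comp, theta_tmul, theta_tmul, Ext.comp_assoc_of_third_deg_zero,
        Ext.mk₀_comp_mk₀, psi_apply, psi_apply, map_mul, Coh.smulAb_mul, Category.assoc]
  exact ⟨LinearEquiv.ofBijective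
    { toFun := Ψ, map_add' := Ψ.map_add, map_smul' := hlin } hΨ⟩

end Groth.Agent.LD.FBC
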