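import Mathlib.Algebra.FiveLemma
import Mathlib.RingTheory.Flat.Basic
import Mathlib.Algebra.Exact.Basic

/-! # The five lemma after tensoring with a flat module. -/

namespace Groth.Agent.LD.FBC

open TensorProduct

variable {A : Type*} [CommRing A] (M : Type*) [AddCommGroup M] [Module A M] [Module.Flat A M]
variable {E₁ E₂ E₃ E₄ E₅ : Type*}
  [AddCommGroup E₁] [AddCommGroup E₂] [AddCommGroup E₃] [AddCommGroup E₄] [AddCommGroup E₅]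
  [Module A E₁] [Module A E₂] [Module A E₃] [Module A E₄] [Module A E₅]
variable {N₁ N₂ N₃ N₄ N₅ : Type*}
  [AddCommGroup N₁] [AddCommGroup N₂] [AddCommGroup N₃] [AddCommGroup N₄] [AddCommGroup N₅]
variable (f₁ : E₁ →ₗ[A] E₂) (f₂ : E₂ →ₗ[A] E₃) (f₃ : E₃ →ₗ[A] E₄) (f₄ : E₄ →ₗ[A] E₅)
variable (g₁ : N₁ →+ N₂) (g₂ : N₂ →+ N₃) (g₃ : N₃ →+ N₄) (g₄ : N₄ →+ N₅)
variable (i₁ : M ⊗[A] E₁ →+ N₁) (i₂ : M ⊗[A] E₂ →+ N₂) (i₃ : M ⊗[A] E₃ →+ N₃)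
  (i₄ : M ⊗[A] E₄ →+ N₄) (i₅ : M ⊗[A] E₅ →+ N₅)

/-- the five lemma for a ladder whose top row is `M ⊗ -` of an exact sequence, `M` flat. -/
theorem tensor_five
    (hc₁ : ∀ z, g₁ (i₁ z) = i₂ (f₁.lTensor M z)) (hc₂ : ∀ z, g₂ (i₂ z) = i₃ (f₂.lTensor M z))
    (hc₃ : ∀ z, g₃ (i₃ z) = i₄ (f₃.lTensor M z)) (hc₄ : ∀ z, g₄ (i₄ z) = i₅ (f₄.lTensor M z))
    (hf₁ : Function.Exact f₁ f₂) (hf₂ : Function.Exact f₂ f₃) (hf₃ : Function.Exact f₃ f₄)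
    (hg₁ : Function.Exact g₁ g₂) (hg₂ : Function.Exact g₂ g₃) (hg₃ : Function.Exact g₃ g₄)
    (hi₁ : Function.Surjective i₁) (hi₂ : Function.Bijective i₂) (hi₄ : Function.Bijective i₄)
    (hi₅ : Function.Injective i₅) : Function.Bijective i₃ := by
  refine AddMonoidHom.bijective_of_surjective_of_bijective_of_bijective_of_injective
    (f₁.lTensor M).toAddMonoidHom (f₂.lTensor M).toAddMonoidHom (f₃.lTensor M).toAddMonoidHom
    (f₄.lTensor M).toAddMonoidHom g₁ g₂ g₃ g₄ i₁ i₂ i₃ i₄ i₅ ?_ ?_ ?_ ?_ ?_ ?_ ?_ hg₁ hg₂ hg₃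
    hi₁ hi₂ hi₄ hi₅
  · ext z; exact hc₁ z
  · ext z; exact hc₂ z
  · ext z; exact hc₃ z
  · ext z; exact hc₄ z
  · exact Module.Flat.lTensor_exact M hf₁
  · exact Module.Flat.lTensor_exact M hf₂
  · exact Module.Flat.lTensor_exact M hf₃

/-- the left-exact variant: `0 → E₁ → E₂ → E₃`. -/
theorem tensor_left_exact
    (hc₁ : ∀ z, g₁ (i₁ z) = i₂ (f₁.lTensor M z)) (hc₂ : ∀ z, g₂ (i₂ z) = i₃ (f₂.lTensor M z))
    (hf₁ : Function.Exact f₁ f₂) (hg₁ : Function.Exact g₁ g₂)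
    (hf₀ : Function.Injective f₁) (hg₀ : Function.Injective g₁)
    (hi₂ : Function.Bijective i₂) (hi₃ : Function.Injective i₃) : Function.Bijective i₁ := by
  refine AddMonoidHom.bijective_of_bijective_of_injective_of_left_exact
    (f₁.lTensor M).toAddMonoidHom (f₂.lTensor M).toAddMonoidHom g₁ g₂ i₁ i₂ i₃ ?_ ?_ ?_ hg₁
    hi₂ hi₃ ?_ hg₀
  · ext z; exact hc₁ z
  · ext z; exact hc₂ z
  · exact Module.Flat.lTensor_exact M hf₁
  · exact Module.Flat.lTensor_preserves_injective_linearMap f₁ hf₀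

end Groth.Agent.LD.FBC
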