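import Groth.Agent.Lib.Lead.FBC.ExtAct
import Groth.Agent.Lib.Lead.FBC.TensorFive

/-! # The comparison map `M ⊗_A Ext(Z, a) → Ext(L Z, a')` and its two-out-of-three property. -/

universe w w' v v' u u'

open CategoryTheory Limits Abelian TensorProduct

namespace Groth.Agent.LD.FBC

variable {C : Type u} [Category.{v} C] [Abelian C] [HasExt.{w} C]
variable {D : Type u'} [Category.{v'} D] [Abelian D] [HasExt.{w'} D]
variable (L : C ⥤ D) [L.Additive] [PreservesFiniteLimits L] [PreservesFiniteColimits L]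
variable {A : Type*} [CommRing A] {a : C} (ρ : A →+* End a)
variable {M : Type*} [AddCommGroup M] [Module A M] {a' : D}
  (ψ : M →+ (L.obj a ⟶ a')) (hψ : ∀ (r : A) (m : M), ψ (r • m) = L.map (ρ r) ≫ ψ m)

/-- the bilinear map underlying `theta`. -/
noncomputable def thetaAux (Z : C) (n : ℕ) : M →+ ExtA ρ Z n →+ Ext.{w'} (L.obj Z) a' n where
  toFun m :=
    { toFun := fun x => ((ExtA.val ρ x).mapExactFunctor L).comp (Ext.mk₀ (ψ m)) (add_zero n)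
      map_zero' := by
        change ((0 : Ext.{w} Z a n).mapExactFunctor L).comp (Ext.mk₀ (ψ m)) (add_zero n) = 0
        rw [Ext.mapExactFunctor_zero, Ext.zero_comp]
      map_add' := fun x y => by
        change ((ExtA.val ρ x + ExtA.val ρ y).mapExactFunctor L).comp (Ext.mk₀ (ψ m)) (add_zero n) =
          ((ExtA.val ρ x).mapExactFunctor L).comp (Ext.mk₀ (ψ m)) (add_zero n) +
            ((ExtA.val ρ y).mapExactFunctor L).comp (Ext.mk₀ (ψ m)) (add_zero n)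
        rw [Ext.mapExactFunctor_add, Ext.add_comp] }
  map_zero' := by
    ext x
    change ((ExtA.val ρ x).mapExactFunctor L).comp (Ext.mk₀ (ψ 0)) (add_zero n) = 0
    rw [map_zero, Ext.mk₀_zero, Ext.comp_zero]
  map_add' m m' := by
    ext x
    change ((ExtA.val ρ x).mapExactFunctor L).comp (Ext.mk₀ (ψ (m + m'))) (add_zero n) =
      ((ExtA.val ρ x).mapExactFunctor L).comp (Ext.mk₀ (ψ m)) (add_zero n) +
        ((ExtA.val ρ x).mapExactFunctor L).comp (Ext.mk₀ (ψ m')) (add_zero n)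
    rw [map_add, Ext.mk₀_add, Ext.comp_add]

include hψ in
lemma thetaAux_smul (Z : C) (n : ℕ) (r : A) (m : M) (x : ExtA ρ Z n) :
    thetaAux L ρ ψ Z n (r • m) x = thetaAux L ρ ψ Z n m (r • x) := by
  change ((ExtA.val ρ x).mapExactFunctor L).comp (Ext.mk₀ (ψ (r • m))) (add_zero n) =
    (((ExtA.val ρ x).comp (Ext.mk₀ (ρ r)) (add_zero n)).mapExactFunctor L).comp
      (Ext.mk₀ (ψ m)) (add_zero n)
  rw [hψ, Ext.mapExactFunctor_comp, Ext.mapExactFunctor_mk₀, ← Ext.mk₀_comp_mk₀,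
    Ext.comp_assoc_of_third_deg_zero]

/-- the comparison map `M ⊗_A Ext(Z, a) → Ext(L Z, a')`. -/
noncomputable def theta (Z : C) (n : ℕ) : M ⊗[A] ExtA ρ Z n →+ Ext.{w'} (L.obj Z) a' n :=
  TensorProduct.liftAddHom (thetaAux L ρ ψ Z n) (thetaAux_smul L ρ ψ hψ Z n)

lemma theta_tmul (Z : C) (n : ℕ) (m : M) (x : ExtA ρ Z n) :
    theta L ρ ψ hψ Z n (m ⊗ₜ x) =
      ((ExtA.val ρ x).mapExactFunctor L).comp (Ext.mk₀ (ψ m)) (add_zero n) := rfl

/-- `theta` commutes with precomposition by Ext classes. -/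
lemma theta_pre {Z₁ Z₂ : C} {k : ℕ} (e : Ext.{w} Z₁ Z₂ k) (n m : ℕ) (h : k + n = m)
    (z : M ⊗[A] ExtA ρ Z₂ n) :
    theta L ρ ψ hψ Z₁ m ((ExtA.pre ρ e n m h).lTensor M z) =
      (e.mapExactFunctor L).comp (theta L ρ ψ hψ Z₂ n z) h := by
  induction z using TensorProduct.induction_on with
  | zero => rw [map_zero, map_zero, map_zero, Ext.comp_zero]
  | add x y hx hy => rw [map_add, map_add, hx, hy, map_add, Ext.comp_add]
  | tmul m' x =>
    rw [LinearMap.lTensor_tmul, theta_tmul, theta_tmul, ExtA.pre_apply,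
      Ext.mapExactFunctor_comp, Ext.comp_assoc_of_third_deg_zero]

/-- the trivial action of `ℤ`, used to express the bottom rows. -/
noncomputable abbrev ρZ (a' : D) : ℤ →+* End a' := Int.castRingHom _

lemma theta_pre_mk₀ {Z₁ Z₂ : C} (f : Z₁ ⟶ Z₂) (n : ℕ) (z : M ⊗[A] ExtA ρ Z₂ n) :
    (ExtA.pre (ρZ a') (Ext.mk₀ (L.map f)) n n (zero_add n)).toAddMonoidHom
        (theta L ρ ψ hψ Z₂ n z) =
      theta L ρ ψ hψ Z₁ n ((ExtA.pre ρ (Ext.mk₀ f) n n (zero_add n)).lTensor M z) := by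
  refine Eq.trans ?_ (theta_pre L ρ ψ hψ (Ext.mk₀ f) n n (zero_add n) z).symm
  rw [Ext.mapExactFunctor_mk₀]
  rfl

lemma theta_pre_extClass {S : ShortComplex C} (hS : S.ShortExact) (n : ℕ)
    (z : M ⊗[A] ExtA ρ S.X₁ n) :
    (ExtA.pre (ρZ a') (hS.map_of_exact L).extClass n (n + 1) (add_comm 1 n)).toAddMonoidHom
        (theta L ρ ψ hψ S.X₁ n z) =
      theta L ρ ψ hψ S.X₃ (n + 1)
        ((ExtA.pre ρ hS.extClass n (n + 1) (add_comm 1 n)).lTensor M z) := by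
  refine Eq.trans ?_ (theta_pre L ρ ψ hψ hS.extClass n (n + 1) (add_comm 1 n) z).symm
  rw [Ext.mapExactFunctor_extClass]
  rfl

/-- the property that all comparison maps are bijective. -/
def ThetaBij (Z : C) : Prop := ∀ n : ℕ, Function.Bijective (theta L ρ ψ hψ Z n)

variable [Module.Flat A M]

section TwoOfThree

variable {S : ShortComplex C} (hS : S.ShortExact)

include hS in
/-- two-out-of-three: from `X₁` and `X₂` to `X₃`. -/
theorem thetaBij_X₃ (h₁ : ThetaBij L ρ ψ hψ S.X₁) (h₂ : ThetaBij L ρ ψ hψ S.X₂) :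
    ThetaBij L ρ ψ hψ S.X₃ := by
  have hS' : (S.map L).ShortExact := hS.map_of_exact L
  intro n
  cases n with
  | zero =>
    exact tensor_left_exact M
      (ExtA.pre ρ (Ext.mk₀ S.g) 0 0 (zero_add 0)) (ExtA.pre ρ (Ext.mk₀ S.f) 0 0 (zero_add 0))
      (ExtA.pre (ρZ a') (Ext.mk₀ (S.map L).g) 0 0 (zero_add 0)).toAddMonoidHom
      (ExtA.pre (ρZ a') (Ext.mk₀ (S.map L).f) 0 0 (zero_add 0)).toAddMonoidHom
      (theta L ρ ψ hψ S.X₃ 0) (theta L ρ ψ hψ S.X₂ 0) (theta L ρ ψ hψ S.X₁ 0)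
      (theta_pre_mk₀ L ρ ψ hψ S.g 0) (theta_pre_mk₀ L ρ ψ hψ S.f 0)
      (ExtA.exact_g_f ρ hS 0) (ExtA.exact_g_f (ρZ a') hS' 0)
      (ExtA.injective_g_zero ρ hS) (ExtA.injective_g_zero (ρZ a') hS') (h₂ 0) (h₁ 0).1
  | succ n =>
    exact tensor_five M
      (ExtA.pre ρ (Ext.mk₀ S.f) n n (zero_add n))
      (ExtA.pre ρ hS.extClass n (n + 1) (add_comm 1 n))
      (ExtA.pre ρ (Ext.mk₀ S.g) (n + 1) (n + 1) (zero_add (n + 1)))
      (ExtA.pre ρ (Ext.mk₀ S.f) (n + 1) (n + 1) (zero_add (n + 1)))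
      (ExtA.pre (ρZ a') (Ext.mk₀ (S.map L).f) n n (zero_add n)).toAddMonoidHom
      (ExtA.pre (ρZ a') hS'.extClass n (n + 1) (add_comm 1 n)).toAddMonoidHom
      (ExtA.pre (ρZ a') (Ext.mk₀ (S.map L).g) (n + 1) (n + 1) (zero_add (n + 1))).toAddMonoidHom
      (ExtA.pre (ρZ a') (Ext.mk₀ (S.map L).f) (n + 1) (n + 1) (zero_add (n + 1))).toAddMonoidHom
      (theta L ρ ψ hψ S.X₂ n) (theta L ρ ψ hψ S.X₁ n) (theta L ρ ψ hψ S.X₃ (n + 1))
      (theta L ρ ψ hψ S.X₂ (n + 1)) (theta L ρ ψ hψ S.X₁ (n + 1))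
      (theta_pre_mk₀ L ρ ψ hψ S.f n) (theta_pre_extClass L ρ ψ hψ hS n)
      (theta_pre_mk₀ L ρ ψ hψ S.g (n + 1)) (theta_pre_mk₀ L ρ ψ hψ S.f (n + 1))
      (ExtA.exact_f_δ ρ hS n) (ExtA.exact_δ_g ρ hS n) (ExtA.exact_g_f ρ hS (n + 1))
      (ExtA.exact_f_δ (ρZ a') hS' n) (ExtA.exact_δ_g (ρZ a') hS' n)
      (ExtA.exact_g_f (ρZ a') hS' (n + 1))
      (h₂ n).2 (h₁ n) (h₂ (n + 1)) (h₁ (n + 1)).1

include hS in
/-- two-out-of-three: from `X₁` and `X₃` to `X₂`. -/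
theorem thetaBij_X₂ (h₁ : ThetaBij L ρ ψ hψ S.X₁) (h₃ : ThetaBij L ρ ψ hψ S.X₃) :
    ThetaBij L ρ ψ hψ S.X₂ := by
  have hS' : (S.map L).ShortExact := hS.map_of_exact L
  intro n
  cases n with
  | zero =>
    -- 0 → Ext⁰(X₃) → Ext⁰(X₂) → Ext⁰(X₁) → Ext¹(X₃)
    refine ⟨?_, ?_⟩
    · refine AddMonoidHom.injective_of_surjective_of_injective_of_injective
        (0 : PUnit.{1} →+ M ⊗[A] ExtA ρ S.X₃ 0)
        ((ExtA.pre ρ (Ext.mk₀ S.g) 0 0 (zero_add 0)).lTensor M).toAddMonoidHom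
        ((ExtA.pre ρ (Ext.mk₀ S.f) 0 0 (zero_add 0)).lTensor M).toAddMonoidHom
        (0 : PUnit.{1} →+ Ext.{w'} (L.obj S.X₃) a' 0)
        (ExtA.pre (ρZ a') (Ext.mk₀ (S.map L).g) 0 0 (zero_add 0)).toAddMonoidHom
        (ExtA.pre (ρZ a') (Ext.mk₀ (S.map L).f) 0 0 (zero_add 0)).toAddMonoidHom
        (AddMonoidHom.id _) (theta L ρ ψ hψ S.X₃ 0) (theta L ρ ψ hψ S.X₂ 0)
        (theta L ρ ψ hψ S.X₁ 0) ?_ ?_ ?_ ?_ ?_ ?_ (fun x => ⟨x, rfl⟩) (h₃ 0).1 (h₁ 0).1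
      · ext x; simp
      · ext z; exact theta_pre_mk₀ L ρ ψ hψ S.g 0 z
      · ext z; exact theta_pre_mk₀ L ρ ψ hψ S.f 0 z
      · intro y
        constructor
        · intro hy
          exact ⟨0, (Module.Flat.lTensor_preserves_injective_linearMap _
            (ExtA.injective_g_zero ρ hS) (by rw [map_zero]; exact hy.symm))⟩
        · rintro ⟨_, rfl⟩
          exact map_zero _
      · exact Module.Flat.lTensor_exact M (ExtA.exact_g_f ρ hS 0)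
      · intro y
        constructor
        · intro hy
          exact ⟨0, (ExtA.injective_g_zero (ρZ a') hS' ((map_zero _).trans hy.symm))⟩
        · rintro ⟨_, rfl⟩
          exact map_zero _
    · refine AddMonoidHom.surjective_of_surjective_of_surjective_of_injective
        ((ExtA.pre ρ (Ext.mk₀ S.g) 0 0 (zero_add 0)).lTensor M).toAddMonoidHom
        ((ExtA.pre ρ (Ext.mk₀ S.f) 0 0 (zero_add 0)).lTensor M).toAddMonoidHom
        ((ExtA.pre ρ hS.extClass 0 1 (add_comm 1 0)).lTensor M).toAddMonoidHom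
        (ExtA.pre (ρZ a') (Ext.mk₀ (S.map L).g) 0 0 (zero_add 0)).toAddMonoidHom
        (ExtA.pre (ρZ a') (Ext.mk₀ (S.map L).f) 0 0 (zero_add 0)).toAddMonoidHom
        (ExtA.pre (ρZ a') hS'.extClass 0 1 (add_comm 1 0)).toAddMonoidHom
        (theta L ρ ψ hψ S.X₃ 0) (theta L ρ ψ hψ S.X₂ 0) (theta L ρ ψ hψ S.X₁ 0)
        (theta L ρ ψ hψ S.X₃ 1) ?_ ?_ ?_ ?_ ?_ ?_ (h₃ 0).2 (h₁ 0).2 (h₃ 1).1
      · ext z; exact theta_pre_mk₀ L ρ ψ hψ S.g 0 z
      · ext z; exact theta_pre_mk₀ L ρ ψ hψ S.f 0 z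
      · ext z; exact theta_pre_extClass L ρ ψ hψ hS 0 z
      · exact Module.Flat.lTensor_exact M (ExtA.exact_f_δ ρ hS 0)
      · exact ExtA.exact_g_f (ρZ a') hS' 0
      · exact ExtA.exact_f_δ (ρZ a') hS' 0
  | succ n =>
    exact tensor_five M
      (ExtA.pre ρ hS.extClass n (n + 1) (add_comm 1 n))
      (ExtA.pre ρ (Ext.mk₀ S.g) (n + 1) (n + 1) (zero_add (n + 1)))
      (ExtA.pre ρ (Ext.mk₀ S.f) (n + 1) (n + 1) (zero_add (n + 1)))
      (ExtA.pre ρ hS.extClass (n + 1) (n + 1 + 1) (add_comm 1 (n + 1)))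
      (ExtA.pre (ρZ a') hS'.extClass n (n + 1) (add_comm 1 n)).toAddMonoidHom
      (ExtA.pre (ρZ a') (Ext.mk₀ (S.map L).g) (n + 1) (n + 1) (zero_add (n + 1))).toAddMonoidHom
      (ExtA.pre (ρZ a') (Ext.mk₀ (S.map L).f) (n + 1) (n + 1) (zero_add (n + 1))).toAddMonoidHom
      (ExtA.pre (ρZ a') hS'.extClass (n + 1) (n + 1 + 1) (add_comm 1 (n + 1))).toAddMonoidHom
      (theta L ρ ψ hψ S.X₁ n) (theta L ρ ψ hψ S.X₃ (n + 1)) (theta L ρ ψ hψ S.X₂ (n + 1))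
      (theta L ρ ψ hψ S.X₁ (n + 1)) (theta L ρ ψ hψ S.X₃ (n + 1 + 1))
      (theta_pre_extClass L ρ ψ hψ hS n) (theta_pre_mk₀ L ρ ψ hψ S.g (n + 1))
      (theta_pre_mk₀ L ρ ψ hψ S.f (n + 1)) (theta_pre_extClass L ρ ψ hψ hS (n + 1))
      (ExtA.exact_δ_g ρ hS n) (ExtA.exact_g_f ρ hS (n + 1)) (ExtA.exact_f_δ ρ hS (n + 1))
      (ExtA.exact_δ_g (ρZ a') hS' n) (ExtA.exact_g_f (ρZ a') hS' (n + 1))
      (ExtA.exact_f_δ (ρZ a') hS' (n + 1))
      (h₁ n).2 (h₃ (n + 1)) (h₁ (n + 1)) (h₃ (n + 1 + 1)).1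

end TwoOfThree

omit [Module.Flat A M] in
/-- invariance under isomorphism. -/
theorem thetaBij_of_iso {Z Z' : C} (e : Z ≅ Z') (h : ThetaBij L ρ ψ hψ Z) :
    ThetaBij L ρ ψ hψ Z' := by
  intro n
  -- θ_Z ∘ (M ⊗ pre e.hom) = pre (L e.hom) ∘ θ_{Z'}
  have hpre : Function.Bijective (ExtA.pre ρ (Ext.mk₀ e.hom) n n (zero_add n)) := by
    refine Function.bijective_iff_has_inverse.mpr
      ⟨ExtA.pre ρ (Ext.mk₀ e.inv) n n (zero_add n), fun x => ?_, fun x => ?_⟩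
    · change (Ext.mk₀ e.inv).comp ((Ext.mk₀ e.hom).comp (ExtA.val ρ x) (zero_add n))
        (zero_add n) = ExtA.val ρ x
      rw [← Ext.comp_assoc_of_second_deg_zero, Ext.mk₀_comp_mk₀, e.inv_hom_id, Ext.mk₀_id_comp]
    · change (Ext.mk₀ e.hom).comp ((Ext.mk₀ e.inv).comp (ExtA.val ρ x) (zero_add n))
        (zero_add n) = ExtA.val ρ x
      rw [← Ext.comp_assoc_of_second_deg_zero, Ext.mk₀_comp_mk₀, e.hom_inv_id, Ext.mk₀_id_comp]
  have hpre' : Function.Bijective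
      (ExtA.pre (ρZ a') (Ext.mk₀ (L.map e.hom)) n n (zero_add n)) := by
    refine Function.bijective_iff_has_inverse.mpr
      ⟨ExtA.pre (ρZ a') (Ext.mk₀ (L.map e.inv)) n n (zero_add n), fun x => ?_, fun x => ?_⟩
    · change (Ext.mk₀ (L.map e.inv)).comp ((Ext.mk₀ (L.map e.hom)).comp (ExtA.val _ x)
        (zero_add n)) (zero_add n) = ExtA.val _ x
      rw [← Ext.comp_assoc_of_second_deg_zero, Ext.mk₀_comp_mk₀, ← L.map_comp, e.inv_hom_id,
        L.map_id, Ext.mk₀_id_comp]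
    · change (Ext.mk₀ (L.map e.hom)).comp ((Ext.mk₀ (L.map e.inv)).comp (ExtA.val _ x)
        (zero_add n)) (zero_add n) = ExtA.val _ x
      rw [← Ext.comp_assoc_of_second_deg_zero, Ext.mk₀_comp_mk₀, ← L.map_comp, e.hom_inv_id,
        L.map_id, Ext.mk₀_id_comp]
  have hten : Function.Bijective ((ExtA.pre ρ (Ext.mk₀ e.hom) n n (zero_add n)).lTensor M) := by
    let E := LinearEquiv.ofBijective _ hpre
    exact (E.lTensor M).bijective
  have hcomm := theta_pre_mk₀ L ρ ψ hψ e.hom n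
  have h1 : Function.Bijective (fun z => (ExtA.pre (ρZ a') (Ext.mk₀ (L.map e.hom)) n n
      (zero_add n)).toAddMonoidHom (theta L ρ ψ hψ Z' n z)) := by
    have : (fun z => (ExtA.pre (ρZ a') (Ext.mk₀ (L.map e.hom)) n n
        (zero_add n)).toAddMonoidHom (theta L ρ ψ hψ Z' n z)) =
        (theta L ρ ψ hψ Z n) ∘ ((ExtA.pre ρ (Ext.mk₀ e.hom) n n (zero_add n)).lTensor M) := by
      funext z; exact hcomm z
    rw [this]
    exact (h n).comp hten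
  exact (Function.Bijective.of_comp_iff' hpre' _).mp h1

/-- binary biproducts. -/
theorem thetaBij_biprod {Z Z' : C} (h : ThetaBij L ρ ψ hψ Z) (h' : ThetaBij L ρ ψ hψ Z') :
    ThetaBij L ρ ψ hψ (Z ⊞ Z') :=
  thetaBij_X₂ L ρ ψ hψ (S := ShortComplex.mk (biprod.inl : Z ⟶ Z ⊞ Z') (biprod.snd : Z ⊞ Z' ⟶ Z')
    (by simp)) (ShortComplex.Splitting.ofHasBinaryBiproduct Z Z').shortExact h h'

end Groth.Agent.LD.FBC
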