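import Groth.Agent.Lib.Lead.SC.RPushComp
import Groth.Agent.Lib.Lead.SC.Affine
import Groth.Agent.Lib.Lead.QC.PullbackUnit
import Groth.Agent.Lib.Lead.FBC.Theta
import Groth.Prelude.Def_Coh

/-! # Flat base change: the sheaf-theoretic setup. -/

universe u
open CategoryTheory Limits Opposite Abelian TopologicalSpace AlgebraicGeometry

namespace Groth.Agent.LD.FBC
open Groth.Agent.LD.SC Groth.Agent.LD.QC

variable {X' X : Scheme.{u}} (g' : X' ⟶ X)

/-- inverse image of abelian sheaves. -/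
noncomputable def Lg : Sheaf (JX X) AddCommGrpCat.{u} ⥤ Sheaf (JX X') AddCommGrpCat.{u} :=
  TopCat.Sheaf.pullback AddCommGrpCat.{u} g'.base

/-- the adjunction `g'⁻¹ ⊣ g'_*` on abelian sheaves. -/
noncomputable def adjAb : Lg g' ⊣ Coh.pushAb g' :=
  TopCat.Sheaf.pullbackPushforwardAdjunction AddCommGrpCat.{u} g'.base

instance : PreservesFiniteLimits (Lg g') := by
  unfold Lg TopCat.Sheaf.pullback
  exact Functor.SmallCategories.instPreservesFiniteLimitsSheafSheafPullbackOfRepresentablyFlat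
    (Opens.map g'.base) AddCommGrpCat.{u} _ _
instance : PreservesColimits (Lg g') := (adjAb g').leftAdjoint_preservesColimits
instance : PreservesFiniteColimits (Lg g') := inferInstance
instance : (Lg g').Additive := Functor.additive_of_preserves_binary_products _

/-- `Hom(g'⁻¹ ℤ_U, G) ≃ G(g'⁻¹ U)`. -/
noncomputable def LZUHomEquiv (U : X.Opens) (G : Sheaf (JX X') AddCommGrpCat.{u}) :
    ((Lg g').obj (ZU (JX X) U) ⟶ G) ≃ G.obj.obj (op (g' ⁻¹ᵁ U)) :=
  ((adjAb g').homEquiv _ _).trans (homEquiv U ((Coh.pushAb g').obj G))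

lemma LZUHomEquiv_comp (U : X.Opens) {G G' : Sheaf (JX X') AddCommGrpCat.{u}}
    (χ : (Lg g').obj (ZU (JX X) U) ⟶ G) (γ : G ⟶ G') :
    LZUHomEquiv g' U G' (χ ≫ γ) = γ.hom.app (op (g' ⁻¹ᵁ U)) (LZUHomEquiv g' U G χ) := by
  change homEquiv U ((Coh.pushAb g').obj G') ((adjAb g').homEquiv _ _ (χ ≫ γ)) = _
  rw [Adjunction.homEquiv_naturality_right]
  exact homEquiv_comp U _ _

/-- `g'⁻¹ ℤ_U ≅ ℤ_{g'⁻¹ U}`. -/
noncomputable def LZU (U : X.Opens) : (Lg g').obj (ZU (JX X) U) ≅ ZU (JX X') (g' ⁻¹ᵁ U) where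
  hom := (LZUHomEquiv g' U _).symm (gen (g' ⁻¹ᵁ U))
  inv := (homEquiv (g' ⁻¹ᵁ U) _).symm (LZUHomEquiv g' U _ (𝟙 _))
  hom_inv_id := by
    apply (LZUHomEquiv g' U _).injective
    refine (LZUHomEquiv_comp g' U _ _).trans ?_
    rw [Equiv.apply_symm_apply]
    refine (homEquiv_apply (g' ⁻¹ᵁ U) _).symm.trans ?_
    rw [Equiv.apply_symm_apply]
  inv_hom_id := by
    apply (homEquiv (g' ⁻¹ᵁ U) _).injective
    refine (homEquiv_comp (g' ⁻¹ᵁ U) _ _).trans ?_
    rw [Equiv.apply_symm_apply]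
    refine (LZUHomEquiv_comp g' U _ _).symm.trans ?_
    rw [Category.id_comp, Equiv.apply_symm_apply]
    rfl

/-- precomposition with `LZU.inv` computes `LZUHomEquiv`. -/
lemma homEquiv_LZU_inv_comp (U : X.Opens) {G : Sheaf (JX X') AddCommGrpCat.{u}}
    (χ : (Lg g').obj (ZU (JX X) U) ⟶ G) :
    homEquiv (g' ⁻¹ᵁ U) G ((LZU g' U).inv ≫ χ) = LZUHomEquiv g' U G χ := by
  refine (homEquiv_comp (g' ⁻¹ᵁ U) _ _).trans ?_
  change χ.hom.app _ (homEquiv (g' ⁻¹ᵁ U) _ ((homEquiv (g' ⁻¹ᵁ U) _).symm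
    (LZUHomEquiv g' U _ (𝟙 _)))) = _
  rw [Equiv.apply_symm_apply]
  refine (LZUHomEquiv_comp g' U _ _).symm.trans ?_
  rw [Category.id_comp]

/-- the action of global functions on the underlying abelian sheaf. -/
noncomputable def ρΓ (F : X.Modules) : Coh.Γtop X →+* End (Coh.toAb F) where
  toFun r := Coh.smulAb F r
  map_one' := Coh.smulAb_one F
  map_mul' r s := by rw [End.mul_def]; exact Coh.smulAb_mul F r s
  map_zero' := Coh.smulAb_zero F
  map_add' := Coh.smulAb_add F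

lemma ρΓ_apply (F : X.Modules) (r : Coh.Γtop X) : ρΓ F r = Coh.smulAb F r := rfl

variable (F : X.Modules)

/-- the unit `F → g'_* g'^* F` on underlying abelian sheaves. -/
noncomputable def etaAb :
    Coh.toAb F ⟶ (Coh.pushAb g').obj (Coh.toAb ((Scheme.Modules.pullback g').obj F)) :=
  (SheafOfModules.toSheaf X.ringCatSheaf).map
    ((Scheme.Modules.pullbackPushforwardAdjunction g').unit.app F)

lemma etaAb_app (U : X.Opens) (s : Γ(F, U)) :
    (etaAb g' F).hom.app (op U) s = unitSec g' F U s := rfl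

/-- the adjoint map `g'⁻¹ F → g'^* F` on underlying abelian sheaves. -/
noncomputable def epsAb :
    (Lg g').obj (Coh.toAb F) ⟶ Coh.toAb ((Scheme.Modules.pullback g').obj F) :=
  ((adjAb g').homEquiv _ _).symm (etaAb g' F)

lemma homEquiv_epsAb : (adjAb g').homEquiv _ _ (epsAb g' F) = etaAb g' F :=
  Equiv.apply_symm_apply _ _

lemma resTop_appTop (c : Coh.Γtop X) (U : X.Opens) :
    Coh.resTop X' (op (g' ⁻¹ᵁ U)) (g'.appTop c) = g'.app U (Coh.resTop X (op U) c) := by
  have := g'.naturality (homOfLE (le_top : U ≤ ⊤)).op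
  exact (congr($(this) c)).symm

lemma smulAb_etaAb (c : Coh.Γtop X) :
    Coh.smulAb F c ≫ etaAb g' F =
      etaAb g' F ≫ (Coh.pushAb g').map
        (Coh.smulAb ((Scheme.Modules.pullback g').obj F) (g'.appTop c)) := by
  apply Sheaf.hom_ext
  ext U s
  induction U using Opposite.rec with | _ U => ?_
  change unitSec g' F U ((Coh.smulAb F c).hom.app (op U) s) =
    (Coh.smulAb ((Scheme.Modules.pullback g').obj F) (g'.appTop c)).hom.app (op (g' ⁻¹ᵁ U))
      (unitSec g' F U s)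
  rw [Coh.smulAb_app, Coh.smulAb_app, resTop_appTop]
  exact unitSec_smul g' F U _ s

lemma smulAb_epsAb (c : Coh.Γtop X) :
    (Lg g').map (Coh.smulAb F c) ≫ epsAb g' F =
      epsAb g' F ≫ Coh.smulAb ((Scheme.Modules.pullback g').obj F) (g'.appTop c) := by
  apply ((adjAb g').homEquiv _ _).injective
  rw [Adjunction.homEquiv_naturality_left, Adjunction.homEquiv_naturality_right, homEquiv_epsAb]
  exact smulAb_etaAb g' F c

section Psi

variable {A B : Type u} [CommRing A] [CommRing B] [Algebra A B]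
  (τ : A →+* Coh.Γtop X) (τ' : B →+* Coh.Γtop X')
  (hτ : ∀ r : A, g'.appTop (τ r) = τ' (algebraMap A B r))

/-- the action of `A` on `F`. -/
noncomputable abbrev ρA : A →+* End (Coh.toAb F) := (ρΓ F).comp τ

/-- the maps `g'⁻¹ F → g'^* F` indexed by `B`. -/
noncomputable def psi :
    B →+ ((Lg g').obj (Coh.toAb F) ⟶ Coh.toAb ((Scheme.Modules.pullback g').obj F)) where
  toFun b := epsAb g' F ≫ Coh.smulAb ((Scheme.Modules.pullback g').obj F) (τ' b)
  map_zero' := by rw [map_zero, Coh.smulAb_zero, comp_zero]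
  map_add' b b' := by rw [map_add, Coh.smulAb_add, Preadditive.comp_add]

lemma psi_apply (b : B) :
    psi g' F τ' b = epsAb g' F ≫ Coh.smulAb ((Scheme.Modules.pullback g').obj F) (τ' b) := rfl

include hτ in
lemma psi_smul (r : A) (b : B) :
    psi g' F τ' (r • b) = (Lg g').map (ρA F τ r) ≫ psi g' F τ' b := by
  rw [psi_apply, psi_apply, Algebra.smul_def, mul_comm, map_mul, Coh.smulAb_mul, ← hτ,
    ← Category.assoc, ← smulAb_epsAb, Category.assoc]
  rfl

end Psi

end Groth.Agent.LD.FBC
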