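import Groth.Agent.Lib.Lead.FBC.FieldBC
import Groth.Agent.Lib.Lead.QC.LocFree
import Groth.Prelude.Def_CurvBase

/-! # Field base change of Euler characteristic and degree. -/

universe u
open CategoryTheory AlgebraicGeometry TopologicalSpace Opposite Limits TensorProduct

namespace Groth.Agent.LD.FBC
open Groth.Agent.LD.QC Groth.Agent.LD.CL

theorem finrank_HH_bc (k : Type u) [Field k] (k' : Type u) [Field k'] [Algebra k k']
    (X X' : Scheme.{u}) [X.Over (Spec (CommRingCat.of k))] [X'.Over (Spec (CommRingCat.of k'))]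
    [CompactSpace X] [QuasiSeparatedSpace X] (g : X' ⟶ X)
    (hpb : IsPullback g (X' ↘ Spec (CommRingCat.of k')) (X ↘ Spec (CommRingCat.of k))
      (Spec.map (CommRingCat.ofHom (algebraMap k k')))) (F : X.Modules) [F.IsQuasicoherent]
    (i : ℕ) :
    Module.finrank k' (Coh.HH X' ((Scheme.Modules.pullback g).obj F) i) =
      Module.finrank k (Coh.HH X F i) := by
  obtain ⟨e⟩ := flat_base_change g (X ↘ Spec (CommRingCat.of k))
    (X' ↘ Spec (CommRingCat.of k')) hpb F i
  have h := e.finrank_eq
  rw [Module.finrank_baseChange] at h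
  exact h.symm

theorem finrank_HH_congr (k : Type u) [Field k] {X : Scheme.{u}}
    [X.Over (Spec (CommRingCat.of k))] {M N : X.Modules} (e : M ≅ N) (i : ℕ) :
    Module.finrank k (Coh.HH X M i) = Module.finrank k (Coh.HH X N i) :=
  (HHlinearEquivOfIso k e i).finrank_eq

theorem euler_congr (k : Type u) [Field k] {X : Scheme.{u}}
    [X.Over (Spec (CommRingCat.of k))] {M N : X.Modules} (e : M ≅ N) :
    Curv2.euler k X M = Curv2.euler k X N := by
  unfold Curv2.euler
  congr 1
  funext i
  rw [finrank_HH_congr k e i]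

theorem euler_bc (k : Type u) [Field k] (X : Scheme.{u}) [X.Over (Spec (CommRingCat.of k))]
    [CompactSpace X] [QuasiSeparatedSpace X]
    (k' : Type u) [Field k'] [Algebra k k'] (F : X.Modules) [F.IsQuasicoherent] :
    @Curv2.euler k' _ (Curv2.bc k X k') ⟨Curv2.bcSnd k X k'⟩
        ((Scheme.Modules.pullback (Curv2.bcFst k X k')).obj F) = Curv2.euler k X F := by
  letI : (Curv2.bc k X k').Over (Spec (CommRingCat.of k')) := ⟨Curv2.bcSnd k X k'⟩
  unfold Curv2.euler
  congr 1
  funext i
  rw [finrank_HH_bc k k' X (Curv2.bc k X k') (Curv2.bcFst k X k')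
    (IsPullback.of_hasPullback _ _) F i]

theorem deg_bc (k : Type u) [Field k] (X : Scheme.{u}) [X.Over (Spec (CommRingCat.of k))]
    [CompactSpace X] [QuasiSeparatedSpace X]
    (k' : Type u) [Field k'] [Algebra k k'] (E : X.Modules) [E.IsQuasicoherent] (n : ℕ) :
    @Curv2.deg k' _ (Curv2.bc k X k') ⟨Curv2.bcSnd k X k'⟩
        ((Scheme.Modules.pullback (Curv2.bcFst k X k')).obj E) n = Curv2.deg k X E n := by
  letI : (Curv2.bc k X k').Over (Spec (CommRingCat.of k')) := ⟨Curv2.bcSnd k X k'⟩
  unfold Curv2.deg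
  have h1 := euler_bc k X k' E
  have h2 := euler_bc k X k' (unitMod X)
  have h3 : Curv2.euler k' (Curv2.bc k X k') (Coh.structureModule (Curv2.bc k X k')) =
      Curv2.euler k' (Curv2.bc k X k')
        ((Scheme.Modules.pullback (Curv2.bcFst k X k')).obj (unitMod X)) :=
    (euler_congr k' (pullbackUnitIso (Curv2.bcFst k X k'))).symm
  rw [h3]
  rw [h1, h2]

end Groth.Agent.LD.FBC
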