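import Groth.Agent.Lib.Lead.FBC.SecBCMain
import Groth.Agent.Lib.Lead.QC.Push

/-! # The degree-zero base change map is an isomorphism (affine `f`; flat `g` and qcqs `f`). -/

universe u
open CategoryTheory Opposite TopologicalSpace AlgebraicGeometry TensorProduct
open AlgebraicGeometry.Scheme.Modules

namespace Groth.Agent.LD.FBC
open Groth.Agent.LD.QC

variable {X S X' S' : Scheme.{u}} (f : X ⟶ S) (g : S' ⟶ S) (f' : X' ⟶ S') (g' : X' ⟶ X)
  (H : IsPullback g' f' f g) (F : X.Modules) [F.IsQuasicoherent]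

include H in
/-- **affine base change**. -/
theorem isIso_bc0_of_isAffineHom [IsAffineHom f] : IsIso (CohBC.bc0 f g f' g' H.w F) := by
  haveI : ((pushforward f).obj F).IsQuasicoherent := qc_pushforward f F
  apply isIso_bc0_of_bijective
  intro V V' e hV hV'
  letI : Algebra Γ(S, V) Γ(S', V') := (g.appLE V V' e).hom.toAlgebra
  exact bijective_secBC_of_isAffineOpen f g f' g' H.w F V V' e (fun _ => rfl) le_rfl
    (preimage_le_of_le f g f' g' H.w e) le_rfl H hV hV' (hV.preimage f)
    (preimage_eq_prW f g f' g' H.w V V' e)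

include H in
/-- **flat base change in degree zero**. -/
theorem isIso_bc0_of_flat [Flat g] [QuasiCompact f] [QuasiSeparated f] :
    IsIso (CohBC.bc0 f g f' g' H.w F) := by
  haveI : ((pushforward f).obj F).IsQuasicoherent := qc_pushforward f F
  apply isIso_bc0_of_bijective
  intro V V' e hV hV'
  letI : Algebra Γ(S, V) Γ(S', V') := (g.appLE V V' e).hom.toAlgebra
  haveI : Module.Flat Γ(S, V) Γ(S', V') := g.flat_appLE hV hV' e
  have hcomp : IsCompact ((f ⁻¹ᵁ V : X.Opens) : Set X) :=
    QuasiCompact.isCompact_preimage (f := f) _ V.2 hV.isCompact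
  have hqs : IsQuasiSeparated ((f ⁻¹ᵁ V : X.Opens) : Set X) :=
    f.isQuasiSeparated_preimage hV.isQuasiSeparated
  exact bijective_secBC_of_eq f g f' g' H.w F V V' e (fun _ => rfl) le_rfl
    (preimage_le_of_le f g f' g' H.w e) le_rfl (preimage_eq_prW f g f' g' H.w V V' e)
    (PW_of_isCompact f g f' g' H.w F V V' e (fun _ => rfl) H hV hV' _ hcomp hqs)

end Groth.Agent.LD.FBC
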