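import Groth.Agent.Lib.Lead.FBC.Induct
import Groth.Agent.Lib.Lead.FBC.AlgPushout
import Mathlib.AlgebraicGeometry.Morphisms.Flat

universe u
open CategoryTheory Limits Opposite Abelian TopologicalSpace AlgebraicGeometry TensorProduct

namespace Groth.Agent.LD.FBC
open Groth.Agent.LD.SC Groth.Agent.LD.QC

variable {A B : Type u} [CommRing A] [CommRing B] [Algebra A B]
variable {X' X : Scheme.{u}} (f : X ⟶ Spec (CommRingCat.of A)) (f' : X' ⟶ Spec (CommRingCat.of B))
  (g' : X' ⟶ X)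
  (h : IsPullback g' f' f (Spec.map (CommRingCat.ofHom (algebraMap A B))))

include h in
lemma toGlobal_compat (r : A) :
    g'.appTop (Coh.toGlobal f r) = Coh.toGlobal f' (algebraMap A B r) := by
  have hw := h.w
  have h1 : (g' ≫ f).appTop = (f' ≫ Spec.map (CommRingCat.ofHom (algebraMap A B))).appTop := by
    rw [hw]
  rw [Scheme.Hom.comp_appTop, Scheme.Hom.comp_appTop] at h1
  have h2 := congr($h1 ((Scheme.ΓSpecIso (CommRingCat.of A)).inv r))
  change g'.appTop (f.appTop ((Scheme.ΓSpecIso (CommRingCat.of A)).inv r)) =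
    f'.appTop ((Scheme.ΓSpecIso (CommRingCat.of B)).inv (algebraMap A B r))
  refine h2.trans ?_
  change f'.appTop ((Spec.map (CommRingCat.ofHom (algebraMap A B))).appTop
    ((Scheme.ΓSpecIso (CommRingCat.of A)).inv r)) = _
  congr 1
  have h3 := Scheme.ΓSpecIso_inv_naturality (CommRingCat.ofHom (algebraMap A B))
  exact (congr($h3 r)).symm

include h in
lemma isAffineHom_of_isPullback : IsAffineHom g' :=
  MorphismProperty.of_isPullback h.flip inferInstance

include h in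
/-- the CommRingCat pushout square of sections over an affine open. -/
lemma isPushout_sections (U : X.Opens) (hU : IsAffineOpen U) :
    IsPushout (f.appLE ⊤ U le_top)
      ((Spec.map (CommRingCat.ofHom (algebraMap A B))).appLE ⊤ ⊤ le_top)
      (g'.appLE U (g' ⁻¹ᵁ U) le_rfl) (f'.appLE ⊤ (g' ⁻¹ᵁ U) le_top) := by
  have hUY : g' ⁻¹ᵁ U = g' ⁻¹ᵁ U ⊓ f' ⁻¹ᵁ ⊤ := by simp
  exact (isIso_pushoutSection_iff h (US := ⊤) (UT := ⊤) (UX := U) le_top le_top hUY).mp
    (isIso_pushoutSection_of_isAffineOpen h le_top le_top hUY (isAffineOpen_top _)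
      (isAffineOpen_top _) hU)

/-- `A → Γ(X, U)`. -/
noncomputable abbrev algAΓ (U : X.Opens) : A →+* Γ(X, U) := (resΓ X U).comp (Coh.toGlobal f)

lemma algAΓ_eq (U : X.Opens) :
    CommRingCat.ofHom (algAΓ f U) =
      (Scheme.ΓSpecIso (CommRingCat.of A)).inv ≫ f.appLE ⊤ U le_top := by
  ext r
  rfl

include h in
/-- the pushout square of sections over an affine open, over `A → B`. -/
lemma isPushout_sections' (U : X.Opens) (hU : IsAffineOpen U) :
    IsPushout (CommRingCat.ofHom (algebraMap A B)) (CommRingCat.ofHom (algAΓ f U))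
      (CommRingCat.ofHom (algAΓ f' (g' ⁻¹ᵁ U))) (g'.appLE U (g' ⁻¹ᵁ U) le_rfl) := by
  refine (isPushout_sections f f' g' h U hU).flip.of_iso
    (Scheme.ΓSpecIso (CommRingCat.of A)) (Scheme.ΓSpecIso (CommRingCat.of B)) (Iso.refl _)
    (Iso.refl _) ?_ ?_ ?_ ?_
  · exact Scheme.ΓSpecIso_naturality (CommRingCat.ofHom (algebraMap A B))
  · rw [algAΓ_eq, Iso.hom_inv_id_assoc, Iso.refl_hom, Category.comp_id]
  · rw [algAΓ_eq, Iso.hom_inv_id_assoc, Iso.refl_hom, Category.comp_id]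
  · rw [Iso.refl_hom, Iso.refl_hom, Category.comp_id, Category.id_comp]

lemma pbSec_le_rfl {X Y : Scheme.{u}} (φ : X ⟶ Y) (M : Y.Modules) (V : Y.Opens) (m : Γ(M, V)) :
    pbSec φ M (le_refl (φ ⁻¹ᵁ V)) m = unitSec φ M V m := by
  unfold pbSec
  exact res_self _ _ _

noncomputable instance instModuleΓGamA {A : Type u} [CommRing A] {X : Scheme.{u}} (F : X.Modules)
    (τ : A →+* Coh.Γtop X) (U : X.Opens) : Module Γ(X, U) (GamA F τ U) :=
  inferInstanceAs (Module Γ(X, U) Γ(F, U))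

include h in
theorem bijective_secMap (F : X.Modules) [F.IsQuasicoherent] (U : X.Opens) (hU : IsAffineOpen U) :
    Function.Bijective (secMap g' F (Coh.toGlobal f) (Coh.toGlobal f')
      (toGlobal_compat f f' g' h) U) := by
  haveI := isAffineHom_of_isPullback f f' g' h
  have hU' : IsAffineOpen (g' ⁻¹ᵁ U) := hU.preimage g'
  letI algAR : Algebra A Γ(X, U) := (algAΓ f U).toAlgebra
  letI algBR' : Algebra B Γ(X', g' ⁻¹ᵁ U) := (algAΓ f' (g' ⁻¹ᵁ U)).toAlgebra
  letI algRR' : Algebra Γ(X, U) Γ(X', g' ⁻¹ᵁ U) :=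
    (g'.appLE U (g' ⁻¹ᵁ U) le_rfl).hom.toAlgebra
  letI algAR' : Algebra A Γ(X', g' ⁻¹ᵁ U) :=
    ((algebraMap B Γ(X', g' ⁻¹ᵁ U)).comp (algebraMap A B)).toAlgebra
  haveI : IsScalarTower A B Γ(X', g' ⁻¹ᵁ U) := IsScalarTower.of_algebraMap_eq' rfl
  have hpo := isPushout_sections' f f' g' h U hU
  haveI : IsScalarTower A Γ(X, U) Γ(X', g' ⁻¹ᵁ U) :=
    IsScalarTower.of_algebraMap_eq' (by
      have := hpo.w
      exact congrArg CommRingCat.Hom.hom this)
  haveI : Algebra.IsPushout A B Γ(X, U) Γ(X', g' ⁻¹ᵁ U) :=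
    CommRingCat.isPushout_iff_isPushout.mp hpo
  letI : Module Γ(X, U) Γ((Scheme.Modules.pullback g').obj F, g' ⁻¹ᵁ U) := pbModule g' F le_rfl
  haveI := pbModule_isScalarTower g' F (le_refl (g' ⁻¹ᵁ U))
  have hbc := isBaseChange_pbSec g' hU' hU le_rfl F
  exact bijective_of_isPushout_of_isBaseChange (A := A) (B := B) (R := Γ(X, U))
    (R' := Γ(X', g' ⁻¹ᵁ U)) (N := GamA F (Coh.toGlobal f) U)
    (N' := Γ((Scheme.Modules.pullback g').obj F, g' ⁻¹ᵁ U)) (pbSecₗ g' F le_rfl) hbc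
    (fun r n => rfl)
    (secMap g' F (Coh.toGlobal f) (Coh.toGlobal f') (toGlobal_compat f f' g' h) U)
    (fun b n => by
      rw [secMap_tmul]
      change _ = algAΓ f' (g' ⁻¹ᵁ U) b • pbSec g' F le_rfl n
      rw [pbSec_le_rfl]
      rfl)

end Groth.Agent.LD.FBC
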