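import Groth.Agent.Lib.Lead.FBC.Final2
import Mathlib.RingTheory.Localization.BaseChange

universe u
open CategoryTheory Limits Opposite Abelian TopologicalSpace AlgebraicGeometry TensorProduct

namespace Groth.Agent.LD.FBC
open Groth.Agent.LD.SC Groth.Agent.LD.QC

variable (X : Scheme.{u}) (f : Γ(X, ⊤))

/-- `Spec Γ(X,O)_f → Spec Γ(X,O)`. -/
noncomputable abbrev awayMap :
    Spec (CommRingCat.of (Localization.Away f)) ⟶ Spec (CommRingCat.of Γ(X, ⊤)) :=
  Spec.map (CommRingCat.ofHom (algebraMap Γ(X, ⊤) (Localization.Away f)))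

lemma range_basicOpen_ι_toSpecΓ :
    Set.range ((X.basicOpen f).ι ≫ X.toSpecΓ) ⊆ Set.range (awayMap X f) := by
  rw [← Scheme.Hom.coe_opensRange (awayMap X f), Scheme.Hom.opensRange_localizationAway]
  rintro _ ⟨x, rfl⟩
  have : x.1 ∈ X.toSpecΓ ⁻¹ᵁ PrimeSpectrum.basicOpen f := by
    rw [Scheme.toSpecΓ_preimage_basicOpen]; exact x.2
  exact this

/-- the structure map `X_f → Spec Γ(X, O)_f`. -/
noncomputable def basicOpenToSpecAway :
    (X.basicOpen f : Scheme.{u}) ⟶ Spec (CommRingCat.of (Localization.Away f)) :=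
  IsOpenImmersion.lift (awayMap X f) ((X.basicOpen f).ι ≫ X.toSpecΓ)
    (range_basicOpen_ι_toSpecΓ X f)

lemma isPullback_basicOpen :
    IsPullback (X.basicOpen f).ι (basicOpenToSpecAway X f) X.toSpecΓ (awayMap X f) := by
  refine (IsOpenImmersion.isPullback (basicOpenToSpecAway X f) (X.basicOpen f).ι (awayMap X f)
    X.toSpecΓ ?_ ?_).flip
  · exact (IsOpenImmersion.lift_fac _ _ _).symm
  · rw [Scheme.Hom.opensRange_localizationAway, Scheme.toSpecΓ_preimage_basicOpen,
      Scheme.Opens.opensRange_ι]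

/-- isomorphic sheaves have isomorphic cohomology. -/
noncomputable def HAddEquivOfIso {Y : Scheme.{u}} {G G' : Sheaf (JX Y) AddCommGrpCat.{u}}
    (E : G ≅ G') (q : ℕ) : Sheaf.H G q ≃+ Sheaf.H G' q where
  toFun := Sheaf.H.map E.hom q
  invFun := Sheaf.H.map E.inv q
  left_inv x := by
    rw [← Sheaf.H.map_comp_apply, E.hom_inv_id, Sheaf.H.map_id_apply]
  right_inv x := by
    rw [← Sheaf.H.map_comp_apply, E.inv_hom_id, Sheaf.H.map_id_apply]
  map_add' := map_add _

/-- isomorphic modules have isomorphic cohomology. -/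
noncomputable def HHAddEquivOfIso {Y : Scheme.{u}} {N N' : Y.Modules} (e : N ≅ N') (q : ℕ) :
    Coh.HH Y N q ≃+ Coh.HH Y N' q :=
  HAddEquivOfIso ((SheafOfModules.toSheaf Y.ringCatSheaf).mapIso e) q

theorem basicOpen_localization [CompactSpace X] [QuasiSeparatedSpace X] (M : X.Modules)
    [M.IsQuasicoherent] (q : ℕ) :
    letI : Module Γ(X, ⊤) (Coh.HH X M q) := Module.compHom _ (Coh.toGlobal X.toSpecΓ)
    Nonempty (Coh.HHon X M (X.basicOpen f) q ≃+
      LocalizedModule (Submonoid.powers f) (Coh.HH X M q)) := by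
  letI : Module Γ(X, ⊤) (Coh.HH X M q) := Module.compHom _ (Coh.toGlobal X.toSpecΓ)
  letI : Module (Localization.Away f) (Coh.HH (X.basicOpen f : Scheme.{u})
      ((Scheme.Modules.pullback (X.basicOpen f).ι).obj M) q) :=
    Module.compHom _ (Coh.toGlobal (basicOpenToSpecAway X f))
  obtain ⟨e⟩ := flat_base_change (A := Γ(X, ⊤)) (B := Localization.Away f) (X.basicOpen f).ι
    X.toSpecΓ (basicOpenToSpecAway X f) (isPullback_basicOpen X f) M q
  let e₂ := LocalizedModule.equivTensorProduct (Submonoid.powers f) (Coh.HH X M q)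
  let e₃ := HHAddEquivOfIso
    ((Scheme.Modules.restrictFunctorIsoPullback (X.basicOpen f).ι).app M) q
  exact ⟨e₃.trans (e.symm.toAddEquiv.trans e₂.symm.toAddEquiv)⟩

end Groth.Agent.LD.FBC
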