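import Groth.Agent.Lib.Lead.QC.PullbackUnit
import Groth.Prelude.Def_CohBC2

/-! # The degree-zero base change map on sections. -/

universe u
open CategoryTheory Opposite TopologicalSpace AlgebraicGeometry
open AlgebraicGeometry.Scheme.Modules

namespace Groth.Agent.LD.FBC
open Groth.Agent.LD.QC

variable {X S X' S' : Scheme.{u}} (f : X ⟶ S) (g : S' ⟶ S) (f' : X' ⟶ S') (g' : X' ⟶ X)
  (w : g' ≫ f = f' ≫ g) (F : X.Modules)

/-- triangle identity on sections. -/
lemma counit_unitSec (Q : S'.Modules) (V : S.Opens) (m : Γ(Q, g ⁻¹ᵁ V)) :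
    ((pullbackPushforwardAdjunction g).counit.app Q).app (g ⁻¹ᵁ V)
      (unitSec g ((pushforward g).obj Q) V m) = m := by
  have h := (pullbackPushforwardAdjunction g).right_triangle_components Q
  exact congr($(h).app V m)

include w in
lemma preimage_le_of_le {V : S.Opens} {V' : S'.Opens} (e : V' ≤ g ⁻¹ᵁ V) :
    f' ⁻¹ᵁ V' ≤ g' ⁻¹ᵁ (f ⁻¹ᵁ V) := by
  intro x hx
  have h1 : g (f' x) ∈ V := e hx
  have h2 : (g' ≫ f) x = (f' ≫ g) x := by rw [w]
  change f (g' x) ∈ V
  exact (show f (g' x) = g (f' x) from h2) ▸ h1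

/-- the adjoint form of the base change map on sections is the unit. -/
lemma bc0Adj_app (V : S.Opens) (n : Γ(F, f ⁻¹ᵁ V)) :
    (CohBC.bc0Adj f g f' g' w F).app V n =
      ((pullback g').obj F).presheaf.map
        (homOfLE (preimage_le_of_le f g f' g' w (le_refl (g ⁻¹ᵁ V)))).op
        (unitSec g' F (f ⁻¹ᵁ V) n) := by
  rfl

/-- **the degree-zero base change map on sections**: it sends the canonical image of a section
`n ∈ Γ(F, f⁻¹V)` in `Γ(g^* f_* F, V')` to its canonical image in `Γ(g'^* F, f'⁻¹V')`. -/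
theorem bc0_pbSec {V : S.Opens} {V' : S'.Opens} (e : V' ≤ g ⁻¹ᵁ V) (n : Γ(F, f ⁻¹ᵁ V)) :
    (CohBC.bc0 f g f' g' w F).app V'
      (pbSec g ((pushforward f).obj F) e (show Γ((pushforward f).obj F, V) from n)) =
      pbSec g' F (preimage_le_of_le f g f' g' w e) n := by
  have hbc : CohBC.bc0 f g f' g' w F = (pullback g).map (CohBC.bc0Adj f g f' g' w F) ≫
      (pullbackPushforwardAdjunction g).counit.app _ := by
    unfold CohBC.bc0
    rw [Adjunction.homEquiv_counit]
  rw [hbc]
  change ((pullbackPushforwardAdjunction g).counit.app _).app V'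
    (((pullback g).map (CohBC.bc0Adj f g f' g' w F)).app V' (pbSec g _ e _)) = _
  rw [pbSec_naturality]
  unfold pbSec
  refine (app_res ((pullbackPushforwardAdjunction g).counit.app
    ((pushforward f').obj ((pullback g').obj F))) e _).trans ?_
  rw [counit_unitSec, bc0Adj_app]
  exact res_res ((pullback g').obj F) _ _ _

end Groth.Agent.LD.FBC
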