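import Groth.Agent.Lib.Lead.FBC.Final2
import Groth.Agent.Lib.Lead.CohLES.Basic
import Groth.Agent.Lib.Lead.QC.UnitIso

/-! # Field base change of the cohomology of the structure sheaf. -/

universe u
open CategoryTheory AlgebraicGeometry TopologicalSpace Opposite Limits TensorProduct

namespace Groth.Agent.LD.FBC
open Groth.Agent.LD.QC Groth.Agent.LD.CL

/-- an isomorphism of modules induces a linear equivalence on cohomology. -/
noncomputable def HHlinearEquivOfIso (A : Type u) [CommRing A] {X : Scheme.{u}}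
    [X.Over (Spec (CommRingCat.of A))] {M N : X.Modules} (e : M ≅ N) (i : ℕ) :
    Coh.HH X M i ≃ₗ[A] Coh.HH X N i :=
  LinearEquiv.ofLinear (HHmap A e.hom i) (HHmap A e.inv i)
    (by rw [← HHmap_comp, e.inv_hom_id, HHmap_id])
    (by rw [← HHmap_comp, e.hom_inv_id, HHmap_id])

theorem finrank_HH_unit_bc (k : Type u) [Field k] (k' : Type u) [Field k'] [Algebra k k']
    (X X' : Scheme.{u}) [X.Over (Spec (CommRingCat.of k))] [X'.Over (Spec (CommRingCat.of k'))]
    [CompactSpace X] [QuasiSeparatedSpace X] (g : X' ⟶ X)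
    (hpb : IsPullback g (X' ↘ Spec (CommRingCat.of k')) (X ↘ Spec (CommRingCat.of k))
      (Spec.map (CommRingCat.ofHom (algebraMap k k')))) (i : ℕ) :
    Module.finrank k' (Coh.HH X' (Coh.structureModule X') i) =
      Module.finrank k (Coh.HH X (Coh.structureModule X) i) := by
  obtain ⟨e⟩ := flat_base_change g (X ↘ Spec (CommRingCat.of k))
    (X' ↘ Spec (CommRingCat.of k')) hpb (unitMod X) i
  have e2 : Coh.HH X' ((Scheme.Modules.pullback g).obj (unitMod X)) i ≃ₗ[k']
      Coh.HH X' (unitMod X') i := HHlinearEquivOfIso k' (pullbackUnitIso g) i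
  have h := (e.trans e2).finrank_eq
  rw [Module.finrank_baseChange] at h
  exact h.symm

end Groth.Agent.LD.FBC
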