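import Groth.Agent.Lib.Lead.FBC.Main

/-! # Flat base change of sections over quasi-compact quasi-separated opens. -/

universe u
open CategoryTheory Limits Opposite Abelian TopologicalSpace AlgebraicGeometry TensorProduct

namespace Groth.Agent.LD.FBC
open Groth.Agent.LD.SC Groth.Agent.LD.QC

variable {A B : Type u} [CommRing A] [CommRing B] [Algebra A B]
variable {X' X : Scheme.{u}} (f : X ⟶ Spec (CommRingCat.of A)) (f' : X' ⟶ Spec (CommRingCat.of B))
  (g' : X' ⟶ X)
  (h : IsPullback g' f' f (Spec.map (CommRingCat.ofHom (algebraMap A B))))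

include h in
/-- `B ⊗_A Γ(O, F) → Γ(g'⁻¹ O, g'^* F)` is bijective on every quasi-compact quasi-separated
open `O`, for `B` flat over `A` and `F` quasi-coherent. -/
theorem bijective_secMap_of_isCompact [Module.Flat A B] (F : X.Modules) [F.IsQuasicoherent]
    (O : X.Opens) (hO : IsCompact (O : Set X)) (hqs : IsQuasiSeparated (O : Set X)) :
    Function.Bijective
      (secMap g' F (Coh.toGlobal f) (Coh.toGlobal f') (toGlobal_compat f f' g' h) O) := by
  have hP := PU_of_isCompact f f' g' h F O hO hqs 0
  have h1 : Function.Bijective (fun z => E0' g' O _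
      (Θ g' F (Coh.toGlobal f) (Coh.toGlobal f') (toGlobal_compat f f' g' h) O 0 z)) :=
    (E0' g' O _).bijective.comp hP
  have h2 : (fun z => E0' g' O _
      (Θ g' F (Coh.toGlobal f) (Coh.toGlobal f') (toGlobal_compat f f' g' h) O 0 z)) =
      (secMap g' F (Coh.toGlobal f) (Coh.toGlobal f') (toGlobal_compat f f' g' h) O) ∘
        ((E0 F (Coh.toGlobal f) O).toLinearMap.lTensor B) := by
    funext z
    exact E0'_Θ g' F _ _ _ O z
  rw [h2] at h1
  exact (Function.Bijective.of_comp_iff _ ((E0 F (Coh.toGlobal f) O).lTensor B).bijective).mp h1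

include h in
/-- the same on the whole space of a quasi-compact quasi-separated `X`. -/
theorem bijective_secMap_top [Module.Flat A B] [CompactSpace X] [QuasiSeparatedSpace X]
    (F : X.Modules) [F.IsQuasicoherent] :
    Function.Bijective
      (secMap g' F (Coh.toGlobal f) (Coh.toGlobal f') (toGlobal_compat f f' g' h) ⊤) :=
  bijective_secMap_of_isCompact f f' g' h F ⊤ isCompact_univ
    (isQuasiSeparated_univ_iff.mpr inferInstance)

end Groth.Agent.LD.FBC
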