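import Groth.Agent.Lib.Lead.FBC.AlgPushout
import Mathlib.RingTheory.TensorProduct.Basic

/-! # Base change along a pushout square of rings: the converse direction. -/

namespace Groth.Agent.LD.FBC

open TensorProduct

variable {A B R R' N N' : Type*} [CommRing A] [CommRing B] [CommRing R] [CommRing R']
  [Algebra A B] [Algebra A R] [Algebra B R'] [Algebra R R'] [Algebra A R']
  [IsScalarTower A B R'] [IsScalarTower A R R'] [Algebra.IsPushout A B R R']
  [AddCommGroup N] [Module R N] [Module A N]
  [AddCommGroup N'] [Module R' N'] [Module R N'] [IsScalarTower R R' N']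

/-- if `R' = B ⊗_A R` and `B ⊗_A N → N'`, `b ⊗ n ↦ b • σ n`, is bijective, then `N' = R' ⊗_R N`
(via `σ`). -/
theorem isBaseChange_of_isPushout_of_bijective (σ : N →ₗ[R] N')
    (hst : ∀ (r : A) (n : N), algebraMap A R r • n = r • n)
    (Φ : B ⊗[A] N →+ N') (hΦ : ∀ (b : B) (n : N), Φ (b ⊗ₜ n) = algebraMap B R' b • σ n)
    (hbij : Function.Bijective Φ) : IsBaseChange R' σ := by
  haveI : IsScalarTower A R N := IsScalarTower.of_algebraMap_smul hst
  let e1 : B ⊗[A] N ≃ₗ[B] R' ⊗[R] N := (Algebra.IsPushout.cancelBaseChange A B R R' N).symm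
  let L : R' ⊗[R] N →ₗ[R'] N' := σ.liftBaseChange R'
  have h : ∀ z, Φ z = L (e1 z) := by
    intro z
    induction z using TensorProduct.induction_on with
    | zero => simp
    | add x y hx hy => rw [map_add, hx, hy, map_add, map_add]
    | tmul b n =>
      rw [hΦ]
      change _ = L ((Algebra.IsPushout.cancelBaseChange A B R R' N).symm (b ⊗ₜ n))
      rw [Algebra.IsPushout.cancelBaseChange_symm_tmul, LinearMap.liftBaseChange_tmul]
  have hL : Function.Bijective L := by
    have h2 : (Φ : B ⊗[A] N → N') = L ∘ e1 := funext h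
    rw [h2] at hbij
    exact (Function.Bijective.of_comp_iff _ e1.bijective).mp hbij
  exact IsBaseChange.of_equiv (LinearEquiv.ofBijective L hL)
    (fun x => LinearMap.liftBaseChange_one_tmul _ _ _)

end Groth.Agent.LD.FBC
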