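import Groth.Agent.Lib.Lead.FBC.BC0

/-! # Horizontal composition of degree-zero base change maps. -/

universe u
open CategoryTheory Opposite TopologicalSpace AlgebraicGeometry
open AlgebraicGeometry.Scheme.Modules

namespace Groth.Agent.LD.FBC
open Groth.Agent.LD.QC

/-- morphisms out of a pullback are determined by their values on the unit sections. -/
lemma hom_ext_unitSec {X Y : Scheme.{u}} (φ : X ⟶ Y) {P : Y.Modules} {Q : X.Modules}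
    (h h' : (pullback φ).obj P ⟶ Q)
    (hh : ∀ (V : Y.Opens) (p : Γ(P, V)),
      h.app (φ ⁻¹ᵁ V) (unitSec φ P V p) = h'.app (φ ⁻¹ᵁ V) (unitSec φ P V p)) : h = h' := by
  apply ((pullbackPushforwardAdjunction φ).homEquiv P Q).injective
  rw [Adjunction.homEquiv_unit, Adjunction.homEquiv_unit]
  apply Scheme.Modules.hom_ext
  intro V
  ext p
  exact hh V p

lemma comp_app_apply {X : Scheme.{u}} {M N P : X.Modules} (a : M ⟶ N) (b : N ⟶ P) (T : X.Opens)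
    (x : Γ(M, T)) : (a ≫ b).app T x = b.app T (a.app T x) := by
  rw [Scheme.Modules.Hom.comp_app]
  rfl

lemma hom_ext_unitSec₂ {X Y Z : Scheme.{u}} (φ : X ⟶ Y) (ψ : Y ⟶ Z) {N : Z.Modules}
    {Q : X.Modules} (h h' : (pullback φ).obj ((pullback ψ).obj N) ⟶ Q)
    (hh : ∀ (V : Z.Opens) (n : Γ(N, V)),
      h.app (φ ⁻¹ᵁ (ψ ⁻¹ᵁ V)) (unitSec φ _ (ψ ⁻¹ᵁ V) (unitSec ψ N V n)) =
        h'.app (φ ⁻¹ᵁ (ψ ⁻¹ᵁ V)) (unitSec φ _ (ψ ⁻¹ᵁ V) (unitSec ψ N V n))) : h = h' := by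
  apply ((pullbackPushforwardAdjunction φ).homEquiv _ Q).injective
  apply hom_ext_unitSec ψ
  intro V n
  rw [Adjunction.homEquiv_unit, Adjunction.homEquiv_unit]
  exact hh V n

variable {X Y Z U V W : Scheme.{u}} (f : X ⟶ Y) (g : Y ⟶ Z)
    (ξ : X ⟶ U) (η : Y ⟶ V) (ζ : Z ⟶ W) (φ : U ⟶ V) (ψ : V ⟶ W)
    (h₁ : f ≫ η = ξ ≫ φ) (h₂ : g ≫ ζ = η ≫ ψ) (hw : (f ≫ g) ≫ ζ = ξ ≫ (φ ≫ ψ)) (L : Z.Modules)

/-- **horizontal composition of base change maps**. -/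
theorem bc0_comp :
    (pullbackComp φ ψ).hom.app ((pushforward ζ).obj L) ≫ CohBC.bc0 ζ (φ ≫ ψ) ξ (f ≫ g) hw L =
      (pullback φ).map (CohBC.bc0 ζ ψ η g h₂ L) ≫ CohBC.bc0 η φ ξ f h₁ ((pullback g).obj L) ≫
        (pushforward ξ).map ((pullbackComp f g).hom.app L) := by
  apply hom_ext_unitSec₂
  intro T n
  have eT : φ ⁻¹ᵁ (ψ ⁻¹ᵁ T) ≤ φ ⁻¹ᵁ (ψ ⁻¹ᵁ T) := le_rfl
  -- left side
  have l1 : ((pullbackComp φ ψ).hom.app ((pushforward ζ).obj L)).app (φ ⁻¹ᵁ (ψ ⁻¹ᵁ T))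
      (unitSec φ _ (ψ ⁻¹ᵁ T) (unitSec ψ ((pushforward ζ).obj L) T n)) =
      pbSec (φ ≫ ψ) ((pushforward ζ).obj L) (le_refl ((φ ≫ ψ) ⁻¹ᵁ T)) n := by
    have := pbSec_comp' φ ψ ((pushforward ζ).obj L) (W := φ ⁻¹ᵁ (ψ ⁻¹ᵁ T)) (U := ψ ⁻¹ᵁ T)
      (V := T) le_rfl le_rfl le_rfl n
    refine Eq.trans ?_ this
    unfold pbSec
    rw [res_self, res_self]
  have hl : ((pullbackComp φ ψ).hom.app ((pushforward ζ).obj L) ≫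
      CohBC.bc0 ζ (φ ≫ ψ) ξ (f ≫ g) hw L).app (φ ⁻¹ᵁ (ψ ⁻¹ᵁ T))
      (unitSec φ _ (ψ ⁻¹ᵁ T) (unitSec ψ ((pushforward ζ).obj L) T n)) =
      pbSec (f ≫ g) L (preimage_le_of_le ζ (φ ≫ ψ) ξ (f ≫ g) hw (le_refl ((φ ≫ ψ) ⁻¹ᵁ T))) n := by
    rw [comp_app_apply, l1]
    exact bc0_pbSec ζ (φ ≫ ψ) ξ (f ≫ g) hw L (le_refl ((φ ≫ ψ) ⁻¹ᵁ T)) n
  -- right side
  have r0 : unitSec ψ ((pushforward ζ).obj L) T n =
      pbSec ψ ((pushforward ζ).obj L) (le_refl (ψ ⁻¹ᵁ T)) n := by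
    unfold pbSec
    rw [res_self]
  have r1 : ((pullback φ).map (CohBC.bc0 ζ ψ η g h₂ L)).app (φ ⁻¹ᵁ (ψ ⁻¹ᵁ T))
      (unitSec φ _ (ψ ⁻¹ᵁ T) (unitSec ψ ((pushforward ζ).obj L) T n)) =
      unitSec φ ((pushforward η).obj ((pullback g).obj L)) (ψ ⁻¹ᵁ T)
        (pbSec g L (preimage_le_of_le ζ ψ η g h₂ (le_refl (ψ ⁻¹ᵁ T))) n) := by
    rw [unitSec_naturality, r0, bc0_pbSec]
  have r2 : (CohBC.bc0 η φ ξ f h₁ ((pullback g).obj L)).app (φ ⁻¹ᵁ (ψ ⁻¹ᵁ T))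
      (unitSec φ ((pushforward η).obj ((pullback g).obj L)) (ψ ⁻¹ᵁ T)
        (pbSec g L (preimage_le_of_le ζ ψ η g h₂ (le_refl (ψ ⁻¹ᵁ T))) n)) =
      pbSec f ((pullback g).obj L)
        (preimage_le_of_le η φ ξ f h₁ (le_refl (φ ⁻¹ᵁ (ψ ⁻¹ᵁ T))))
        (pbSec g L (preimage_le_of_le ζ ψ η g h₂ (le_refl (ψ ⁻¹ᵁ T))) n) := by
    have := bc0_pbSec η φ ξ f h₁ ((pullback g).obj L) (le_refl (φ ⁻¹ᵁ (ψ ⁻¹ᵁ T)))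
      (pbSec g L (preimage_le_of_le ζ ψ η g h₂ (le_refl (ψ ⁻¹ᵁ T))) n)
    refine Eq.trans ?_ this
    congr 1
    unfold pbSec
    rw [res_self]
  have r3 := pbSec_comp' f g L
    (preimage_le_of_le η φ ξ f h₁ (le_refl (φ ⁻¹ᵁ (ψ ⁻¹ᵁ T))))
    (preimage_le_of_le ζ ψ η g h₂ (le_refl (ψ ⁻¹ᵁ T)))
    (preimage_le_of_le ζ (φ ≫ ψ) ξ (f ≫ g) hw (le_refl ((φ ≫ ψ) ⁻¹ᵁ T))) n
  refine hl.trans ?_
  rw [comp_app_apply, comp_app_apply, r1, r2]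
  exact r3.symm

end Groth.Agent.LD.FBC
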