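import Groth.Agent.Lib.Lead.FBC.Setup

/-! # Flat base change: the comparison map on `ℤ_U` in terms of sections. -/

universe u
open CategoryTheory Limits Opposite Abelian TopologicalSpace AlgebraicGeometry TensorProduct

namespace Groth.Agent.LD.FBC
open Groth.Agent.LD.SC Groth.Agent.LD.QC

variable {X' X : Scheme.{u}} (g' : X' ⟶ X) (F : X.Modules)
variable {A B : Type u} [CommRing A] [CommRing B] [Algebra A B]
  (τ : A →+* Coh.Γtop X) (τ' : B →+* Coh.Γtop X')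
  (hτ : ∀ r : A, g'.appTop (τ r) = τ' (algebraMap A B r))

/-- restriction of a global function to `U`, typed as an element of `Γ(X, U)`. -/
noncomputable def resΓ (X : Scheme.{u}) (U : X.Opens) : Coh.Γtop X →+* Γ(X, U) :=
  Coh.resTop X (op U)

lemma resΓ_appTop (c : Coh.Γtop X) (U : X.Opens) :
    resΓ X' (g' ⁻¹ᵁ U) (g'.appTop c) = g'.app U (resΓ X U c) := resTop_appTop g' c U

/-- sections of `F` over `U`, as an `A`-module through `τ`. -/
def GamA (_τ : A →+* Coh.Γtop X) (U : X.Opens) : Type u := Γ(F, U)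

noncomputable instance (U : X.Opens) : AddCommGroup (GamA F τ U) :=
  inferInstanceAs (AddCommGroup Γ(F, U))

noncomputable instance (U : X.Opens) : Module A (GamA F τ U) :=
  Module.compHom (R := Γ(X, U)) Γ(F, U) ((resΓ X U).comp τ)

lemma GamA.smul_def (U : X.Opens) (r : A) (s : GamA F τ U) :
    r • s = (show Γ(F, U) from resΓ X U (τ r) • (show Γ(F, U) from s)) :=
  rfl

/-- the bilinear map underlying `secMap`. -/
noncomputable def secAux (U : X.Opens) :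
    B →+ GamA F τ U →+ Γ((Scheme.Modules.pullback g').obj F, g' ⁻¹ᵁ U) where
  toFun b :=
    { toFun := fun s => resΓ X' (g' ⁻¹ᵁ U) (τ' b) •
        unitSec g' F U s
      map_zero' := by
        change resΓ X' (g' ⁻¹ᵁ U) (τ' b) • unitSec g' F U (0 : Γ(F, U)) = 0
        rw [unitSec_zero, smul_zero]
      map_add' := fun s s' => by
        change _ • unitSec g' F U ((show Γ(F, U) from s) + (show Γ(F, U) from s')) = _
        rw [unitSec_add, smul_add] }
  map_zero' := by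
    ext s
    change resΓ X' (g' ⁻¹ᵁ U) (τ' 0) • unitSec g' F U s = 0
    rw [map_zero, map_zero, zero_smul]
  map_add' b b' := by
    ext s
    change resΓ X' (g' ⁻¹ᵁ U) (τ' (b + b')) • unitSec g' F U s =
      resΓ X' (g' ⁻¹ᵁ U) (τ' b) • unitSec g' F U s +
      resΓ X' (g' ⁻¹ᵁ U) (τ' b') • unitSec g' F U s
    rw [map_add, map_add, add_smul]

include hτ in
lemma secAux_smul (U : X.Opens) (r : A) (b : B) (s : GamA F τ U) :
    secAux g' F τ τ' U (r • b) s = secAux g' F τ τ' U b (r • s) := by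
  change resΓ X' (g' ⁻¹ᵁ U) (τ' (r • b)) • unitSec g' F U s =
    resΓ X' (g' ⁻¹ᵁ U) (τ' b) • unitSec g' F U
      (resΓ X U (τ r) • (show Γ(F, U) from s))
  rw [unitSec_smul, ← resΓ_appTop, hτ, Algebra.smul_def, mul_comm, map_mul, map_mul, mul_smul]

/-- the comparison map on sections: `B ⊗_A Γ(F, U) → Γ(g'^* F, g'⁻¹ U)`. -/
noncomputable def secMap (U : X.Opens) :
    B ⊗[A] GamA F τ U →+ Γ((Scheme.Modules.pullback g').obj F, g' ⁻¹ᵁ U) :=
  TensorProduct.liftAddHom (secAux g' F τ τ' U) (secAux_smul g' F τ τ' hτ U)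

lemma secMap_tmul (U : X.Opens) (b : B) (s : GamA F τ U) :
    secMap g' F τ τ' hτ U (b ⊗ₜ s) =
      resΓ X' (g' ⁻¹ᵁ U) (τ' b) • unitSec g' F U s := rfl

/-- `Ext⁰(ℤ_U, F) ≃ₗ[A] Γ(F, U)`. -/
noncomputable def E0 (U : X.Opens) : ExtA (ρA F τ) (ZU (JX X) U) 0 ≃ₗ[A] GamA F τ U :=
  { H0Equiv U (Coh.toAb F) with
    map_smul' := fun r x => by
      obtain ⟨φ, rfl⟩ := (Ext.mk₀_bijective (ZU (JX X) U) (Coh.toAb F)).2 x
      change H0Equiv U (Coh.toAb F) ((Ext.mk₀ φ).comp (Ext.mk₀ (ρA F τ r)) (add_zero 0)) =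
        (show Γ(F, U) from resΓ X U (τ r) • (show Γ(F, U) from H0Equiv U (Coh.toAb F) (Ext.mk₀ φ)))
      rw [Ext.mk₀_comp_mk₀, H0Equiv_mk₀, H0Equiv_mk₀, homEquiv_comp]
      rfl }

lemma E0_mk₀ (U : X.Opens) (φ : ZU (JX X) U ⟶ Coh.toAb F) :
    E0 F τ U (ExtA.mk (ρA F τ) (Ext.mk₀ φ)) = homEquiv U (Coh.toAb F) φ :=
  H0Equiv_mk₀ U φ

/-- `Ext⁰(g'⁻¹ ℤ_U, G) ≃+ G(g'⁻¹ U)`. -/
noncomputable def E0' (U : X.Opens) (G : Sheaf (JX X') AddCommGrpCat.{u}) :
    Ext ((Lg g').obj (ZU (JX X) U)) G 0 ≃+ G.obj.obj (op (g' ⁻¹ᵁ U)) :=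
  Ext.addEquiv₀.trans
    (((adjAb g').homAddEquiv _ _).trans (homAddEquiv U ((Coh.pushAb g').obj G)))

lemma E0'_mk₀ (U : X.Opens) (G : Sheaf (JX X') AddCommGrpCat.{u})
    (χ : (Lg g').obj (ZU (JX X) U) ⟶ G) :
    E0' g' U G (Ext.mk₀ χ) = LZUHomEquiv g' U G χ := by
  have : Ext.addEquiv₀ (Ext.mk₀ χ) = χ := Ext.addEquiv₀.apply_symm_apply χ
  change homEquiv U _ ((adjAb g').homEquiv _ _ (Ext.addEquiv₀ (Ext.mk₀ χ))) = _
  rw [this]
  rfl

/-- the comparison map for `ℤ_U`. -/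
noncomputable abbrev Θ (U : X.Opens) (n : ℕ) :=
  theta (Lg g') (ρA F τ) (psi g' F τ') (psi_smul g' F τ τ' hτ) (ZU (JX X) U) n

lemma LZUHomEquiv_map_comp_psi (U : X.Opens) (φ : ZU (JX X) U ⟶ Coh.toAb F) (b : B) :
    LZUHomEquiv g' U _ ((Lg g').map φ ≫ psi g' F τ' b) =
      resΓ X' (g' ⁻¹ᵁ U) (τ' b) • unitSec g' F U (homEquiv U (Coh.toAb F) φ) := by
  change homEquiv U _ ((adjAb g').homEquiv _ _ ((Lg g').map φ ≫ psi g' F τ' b)) = _
  rw [Adjunction.homEquiv_naturality_left, psi_apply, Adjunction.homEquiv_naturality_right,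
    homEquiv_epsAb]
  refine (homEquiv_comp U φ _).trans ?_
  rfl

/-- in degree zero the comparison map is the comparison map on sections. -/
lemma E0'_Θ (U : X.Opens) (z : B ⊗[A] ExtA (ρA F τ) (ZU (JX X) U) 0) :
    E0' g' U _ (Θ g' F τ τ' hτ U 0 z) =
      secMap g' F τ τ' hτ U ((E0 F τ U).toLinearMap.lTensor B z) := by
  induction z using TensorProduct.induction_on with
  | zero =>
    have h1 : Θ g' F τ τ' hτ U 0 0 = 0 := map_zero _
    have h2 : (E0 F τ U).toLinearMap.lTensor B 0 = 0 := map_zero _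
    have h3 : E0' g' U (Coh.toAb ((Scheme.Modules.pullback g').obj F)) 0 = 0 := map_zero _
    have h4 : secMap g' F τ τ' hτ U 0 = 0 := map_zero _
    exact ((congrArg (E0' g' U (Coh.toAb ((Scheme.Modules.pullback g').obj F))) h1).trans
      h3).trans ((congrArg (secMap g' F τ τ' hτ U) h2).trans h4).symm
  | add x y hx hy =>
    have h1 : Θ g' F τ τ' hτ U 0 (x + y) = Θ g' F τ τ' hτ U 0 x + Θ g' F τ τ' hτ U 0 y :=
      map_add _ _ _
    have h2 : (E0 F τ U).toLinearMap.lTensor B (x + y) =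
      (E0 F τ U).toLinearMap.lTensor B x + (E0 F τ U).toLinearMap.lTensor B y := map_add _ _ _
    have h3 := map_add (E0' g' U (Coh.toAb ((Scheme.Modules.pullback g').obj F)))
      (Θ g' F τ τ' hτ U 0 x) (Θ g' F τ τ' hτ U 0 y)
    have h4 := map_add (secMap g' F τ τ' hτ U) ((E0 F τ U).toLinearMap.lTensor B x)
      ((E0 F τ U).toLinearMap.lTensor B y)
    refine ((congrArg (E0' g' U (Coh.toAb ((Scheme.Modules.pullback g').obj F))) h1).trans
      h3).trans (Eq.trans ?_ ((congrArg (secMap g' F τ τ' hτ U) h2).trans h4).symm)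
    exact congrArg₂ (· + ·) hx hy
  | tmul b x =>
    obtain ⟨φ, rfl⟩ := (Ext.mk₀_bijective (ZU (JX X) U) (Coh.toAb F)).2 x
    rw [LinearMap.lTensor_tmul, secMap_tmul, theta_tmul]
    change E0' g' U _ (((Ext.mk₀ φ).mapExactFunctor (Lg g')).comp (Ext.mk₀ (psi g' F τ' b))
      (add_zero 0)) = _
    rw [Ext.mapExactFunctor_mk₀, Ext.mk₀_comp_mk₀, E0'_mk₀, LZUHomEquiv_map_comp_psi]
    exact congrArg (fun t => resΓ X' (g' ⁻¹ᵁ U) (τ' b) • unitSec g' F U t)
      (E0_mk₀ F τ U φ).symm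

lemma bijective_Θ_zero (U : X.Opens) (h : Function.Bijective (secMap g' F τ τ' hτ U)) :
    Function.Bijective (Θ g' F τ τ' hτ U 0) := by
  have h1 : Function.Bijective (fun z => E0' g' U _ (Θ g' F τ τ' hτ U 0 z)) := by
    have : (fun z => E0' g' U _ (Θ g' F τ τ' hτ U 0 z)) =
        (secMap g' F τ τ' hτ U) ∘ ((E0 F τ U).toLinearMap.lTensor B) := by
      funext z; exact E0'_Θ g' F τ τ' hτ U z
    rw [this]
    exact h.comp ((E0 F τ U).lTensor B).bijective
  exact (Function.Bijective.of_comp_iff' (E0' g' U _).bijective _).mp h1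

end Groth.Agent.LD.FBC
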