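import Groth.Agent.Lib.Lead.FBC.Base

/-! # Flat base change: the base case for `ℤ_U`, `U` with vanishing higher cohomology. -/

universe u
open CategoryTheory Limits Opposite Abelian TopologicalSpace AlgebraicGeometry TensorProduct

namespace Groth.Agent.LD.FBC
open Groth.Agent.LD.SC Groth.Agent.LD.QC

variable {X' X : Scheme.{u}} (g' : X' ⟶ X) (F : X.Modules)
variable {A B : Type u} [CommRing A] [CommRing B] [Algebra A B]
  (τ : A →+* Coh.Γtop X) (τ' : B →+* Coh.Γtop X')
  (hτ : ∀ r : A, g'.appTop (τ r) = τ' (algebraMap A B r))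

lemma subsingleton_ext_of_iso {𝒞 : Type*} [Category 𝒞] [Abelian 𝒞] [HasExt.{u} 𝒞]
    {Z Z' G : 𝒞} (e : Z ≅ Z') (n : ℕ)
    (h : Subsingleton (Ext.{u} Z' G n)) : Subsingleton (Ext.{u} Z G n) := by
  refine ⟨fun x y => ?_⟩
  have hx : x = (Ext.mk₀ e.hom).comp ((Ext.mk₀ e.inv).comp x (zero_add n)) (zero_add n) := by
    rw [← Ext.comp_assoc_of_second_deg_zero, Ext.mk₀_comp_mk₀, e.hom_inv_id, Ext.mk₀_id_comp]
  have hy : y = (Ext.mk₀ e.hom).comp ((Ext.mk₀ e.inv).comp y (zero_add n)) (zero_add n) := by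
    rw [← Ext.comp_assoc_of_second_deg_zero, Ext.mk₀_comp_mk₀, e.hom_inv_id, Ext.mk₀_id_comp]
  rw [hx, hy, Subsingleton.elim ((Ext.mk₀ e.inv).comp x (zero_add n))
    ((Ext.mk₀ e.inv).comp y (zero_add n))]

/-- the base case: `U` and `g'⁻¹ U` have no higher cohomology and the comparison map on sections
is bijective. -/
theorem thetaBij_ZU (U : X.Opens) (hsec : Function.Bijective (secMap g' F τ τ' hτ U))
    (h1 : ∀ n : ℕ, Subsingleton (Ext.{u} (ZU (JX X) U) (Coh.toAb F) (n + 1)))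
    (h2 : ∀ n : ℕ, Subsingleton (Ext.{u} (ZU (JX X') (g' ⁻¹ᵁ U))
      (Coh.toAb ((Scheme.Modules.pullback g').obj F)) (n + 1))) :
    ThetaBij (Lg g') (ρA F τ) (psi g' F τ') (psi_smul g' F τ τ' hτ) (ZU (JX X) U) := by
  intro n
  cases n with
  | zero => exact bijective_Θ_zero g' F τ τ' hτ U hsec
  | succ n =>
    haveI : Subsingleton (ExtA (ρA F τ) (ZU (JX X) U) (n + 1)) := h1 n
    haveI hs : Subsingleton (B ⊗[A] ExtA (ρA F τ) (ZU (JX X) U) (n + 1)) := by
      refine ⟨fun x y => ?_⟩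
      have : ∀ z : B ⊗[A] ExtA (ρA F τ) (ZU (JX X) U) (n + 1), z = 0 := by
        intro z
        induction z using TensorProduct.induction_on with
        | zero => rfl
        | add x y hx hy => rw [hx, hy, add_zero]
        | tmul b x => rw [Subsingleton.elim x 0, TensorProduct.tmul_zero]
      rw [this x, this y]
    haveI ht : Subsingleton (Ext.{u} ((Lg g').obj (ZU (JX X) U))
        (Coh.toAb ((Scheme.Modules.pullback g').obj F)) (n + 1)) :=
      subsingleton_ext_of_iso (LZU g' U) (n + 1) (h2 n)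
    exact ⟨fun x y _ => Subsingleton.elim x y, fun y => ⟨0, Subsingleton.elim _ _⟩⟩

end Groth.Agent.LD.FBC
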