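import Mathlib.Algebra.Homology.DerivedCategory.Ext.Map
import Mathlib.Algebra.Homology.DerivedCategory.Ext.ExactSequences
import Mathlib.Algebra.Exact.Basic

/-! # `Ext(Z, a)` as a module over a ring acting on `a`. -/

universe w w' v v' u u'

open CategoryTheory Limits Abelian

namespace Groth.Agent.LD.FBC

variable {C : Type u} [Category.{v} C] [Abelian C] [HasExt.{w} C]
variable {A : Type*} [CommRing A] {a : C} (ρ : A →+* End a)

/-- `Ext(Z, a)` with the `A`-module structure coming from `ρ : A → End a`. -/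
def ExtA (_ρ : A →+* End a) (Z : C) (n : ℕ) : Type w := Ext.{w} Z a n

noncomputable instance (Z : C) (n : ℕ) : AddCommGroup (ExtA ρ Z n) :=
  inferInstanceAs (AddCommGroup (Ext.{w} Z a n))

/-- the underlying Ext class. -/
def ExtA.val {Z : C} {n : ℕ} (x : ExtA ρ Z n) : Ext.{w} Z a n := x

/-- constructor. -/
def ExtA.mk {Z : C} {n : ℕ} (x : Ext.{w} Z a n) : ExtA ρ Z n := x

noncomputable instance (Z : C) (n : ℕ) : Module A (ExtA ρ Z n) where
  smul r x := ExtA.mk ρ ((ExtA.val ρ x).comp (Ext.mk₀ (ρ r)) (add_zero n))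
  one_smul x := by
    change (ExtA.val ρ x).comp (Ext.mk₀ (ρ 1)) (add_zero n) = ExtA.val ρ x
    rw [map_one]
    exact Ext.comp_mk₀_id _
  mul_smul r s x := by
    change (ExtA.val ρ x).comp (Ext.mk₀ (ρ (r * s))) (add_zero n) =
      ((ExtA.val ρ x).comp (Ext.mk₀ (ρ s)) (add_zero n)).comp (Ext.mk₀ (ρ r)) (add_zero n)
    rw [map_mul, End.mul_def, Ext.comp_assoc_of_third_deg_zero, Ext.mk₀_comp_mk₀]
  smul_zero r := by
    exact Ext.zero_comp Z n (Ext.mk₀ (ρ r)) n (add_zero n)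
  smul_add r x y := by
    change ((ExtA.val ρ x) + (ExtA.val ρ y)).comp (Ext.mk₀ (ρ r)) (add_zero n) =
      (ExtA.val ρ x).comp (Ext.mk₀ (ρ r)) (add_zero n) +
        (ExtA.val ρ y).comp (Ext.mk₀ (ρ r)) (add_zero n)
    exact Ext.add_comp _ _ _ _
  add_smul r s x := by
    change (ExtA.val ρ x).comp (Ext.mk₀ (ρ (r + s))) (add_zero n) =
      (ExtA.val ρ x).comp (Ext.mk₀ (ρ r)) (add_zero n) +
        (ExtA.val ρ x).comp (Ext.mk₀ (ρ s)) (add_zero n)
    rw [map_add]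
    change (ExtA.val ρ x).comp (Ext.mk₀ (ρ r + ρ s)) (add_zero n) = _
    rw [Ext.mk₀_add, Ext.comp_add]
  zero_smul x := by
    change (ExtA.val ρ x).comp (Ext.mk₀ (ρ 0)) (add_zero n) = 0
    rw [map_zero]
    change (ExtA.val ρ x).comp (Ext.mk₀ (0 : a ⟶ a)) (add_zero n) = 0
    rw [Ext.mk₀_zero, Ext.comp_zero]

lemma ExtA.smul_val {Z : C} {n : ℕ} (r : A) (x : ExtA ρ Z n) :
    ExtA.val ρ (r • x) = (ExtA.val ρ x).comp (Ext.mk₀ (ρ r)) (add_zero n) := rfl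

/-- precomposition with a class `e : Ext Z₁ Z₂ k`. -/
noncomputable def ExtA.pre {Z₁ Z₂ : C} {k : ℕ} (e : Ext.{w} Z₁ Z₂ k) (n m : ℕ) (h : k + n = m) :
    ExtA ρ Z₂ n →ₗ[A] ExtA ρ Z₁ m where
  toFun x := ExtA.mk ρ (e.comp (ExtA.val ρ x) h)
  map_add' x y := by
    change e.comp (ExtA.val ρ x + ExtA.val ρ y) h = e.comp (ExtA.val ρ x) h + e.comp (ExtA.val ρ y) h
    exact Ext.comp_add _ _ _ _
  map_smul' r x := by
    change e.comp ((ExtA.val ρ x).comp (Ext.mk₀ (ρ r)) (add_zero n)) h =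
      (e.comp (ExtA.val ρ x) h).comp (Ext.mk₀ (ρ r)) (add_zero m)
    rw [Ext.comp_assoc_of_third_deg_zero]

lemma ExtA.pre_apply {Z₁ Z₂ : C} {k : ℕ} (e : Ext.{w} Z₁ Z₂ k) (n m : ℕ) (h : k + n = m)
    (x : ExtA ρ Z₂ n) : ExtA.val ρ (ExtA.pre ρ e n m h x) = e.comp (ExtA.val ρ x) h := rfl

variable {S : ShortComplex C} (hS : S.ShortExact)

include hS in
lemma ExtA.exact_g_f (n : ℕ) :
    Function.Exact (ExtA.pre ρ (Ext.mk₀ S.g) n n (zero_add n))
      (ExtA.pre ρ (Ext.mk₀ S.f) n n (zero_add n)) := by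
  intro x
  constructor
  · intro hx
    obtain ⟨y, hy⟩ := Ext.contravariant_sequence_exact₂ hS a (ExtA.val ρ x) hx
    exact ⟨ExtA.mk ρ y, hy⟩
  · rintro ⟨y, rfl⟩
    change (Ext.mk₀ S.f).comp ((Ext.mk₀ S.g).comp (ExtA.val ρ y) (zero_add n)) (zero_add n) = 0
    rw [← Ext.comp_assoc_of_second_deg_zero, Ext.mk₀_comp_mk₀, S.zero, Ext.mk₀_zero,
      Ext.zero_comp]

lemma ExtA.exact_f_δ (n : ℕ) :
    Function.Exact (ExtA.pre ρ (Ext.mk₀ S.f) n n (zero_add n))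
      (ExtA.pre ρ hS.extClass n (n + 1) (add_comm 1 n)) := by
  intro x
  constructor
  · intro hx
    obtain ⟨y, hy⟩ := Ext.contravariant_sequence_exact₁ hS a (ExtA.val ρ x) (add_comm 1 n) hx
    exact ⟨ExtA.mk ρ y, hy⟩
  · rintro ⟨y, rfl⟩
    change hS.extClass.comp ((Ext.mk₀ S.f).comp (ExtA.val ρ y) (zero_add n)) (add_comm 1 n) = 0
    rw [← Ext.comp_assoc_of_second_deg_zero, hS.extClass_comp, Ext.zero_comp]

lemma ExtA.exact_δ_g (n : ℕ) :
    Function.Exact (ExtA.pre ρ hS.extClass n (n + 1) (add_comm 1 n))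
      (ExtA.pre ρ (Ext.mk₀ S.g) (n + 1) (n + 1) (zero_add (n + 1))) := by
  intro x
  constructor
  · intro hx
    obtain ⟨y, hy⟩ := Ext.contravariant_sequence_exact₃ hS a (ExtA.val ρ x) hx (add_comm 1 n)
    exact ⟨ExtA.mk ρ y, hy⟩
  · rintro ⟨y, rfl⟩
    change (Ext.mk₀ S.g).comp (hS.extClass.comp (ExtA.val ρ y) (add_comm 1 n))
      (zero_add (n + 1)) = 0
    rw [← Ext.comp_assoc (Ext.mk₀ S.g) hS.extClass (ExtA.val ρ y) (zero_add 1) (add_comm 1 n)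
      (by omega), hS.comp_extClass, Ext.zero_comp]

include hS in
lemma ExtA.injective_g_zero :
    Function.Injective (ExtA.pre ρ (Ext.mk₀ S.g) 0 0 (zero_add 0)) := by
  haveI := hS.epi_g
  exact Ext.precomp_mk₀_injective_of_epi a S.g

end Groth.Agent.LD.FBC
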