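import Groth.Agent.Lib.Lead.FBC.Main

/-! # Flat base change over an affine base: the final statement. -/

universe u
open CategoryTheory Limits Opposite Abelian TopologicalSpace AlgebraicGeometry TensorProduct

namespace Groth.Agent.LD.FBC
open Groth.Agent.LD.SC Groth.Agent.LD.QC

variable {X' X : Scheme.{u}} (g' : X' ⟶ X)

/-- `g'⁻¹ ℤ_X ≅ ℤ_{X'}`. -/
noncomputable def LZUtop : (Lg g').obj (ZU (JX X) ⊤) ≅ ZU (JX X') ⊤ := LZU g' ⊤

/-- `g'⁻¹ ℤ_X ≅ ℤ` (the constant sheaf). -/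
noncomputable def kappa : (Lg g').obj (ZU (JX X) ⊤) ≅ constZ (JX X') :=
  LZUtop g' ≪≫ ZUIsoConst (J := JX X') isTerminalTop

/-- `Ext^i(g'⁻¹ ℤ_X, G) ≃+ H^i(X', G)`. -/
noncomputable def extLZUTopEquiv (G : Sheaf (JX X') AddCommGrpCat.{u}) (i : ℕ) :
    Ext.{u} ((Lg g').obj (ZU (JX X) ⊤)) G i ≃+ Sheaf.H G i where
  toFun x := (Ext.mk₀ (kappa g').inv).comp x (zero_add i)
  invFun y := (Ext.mk₀ (kappa g').hom).comp y (zero_add i)
  left_inv x := by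
    change (Ext.mk₀ (kappa g').hom).comp ((Ext.mk₀ (kappa g').inv).comp x (zero_add i))
      (zero_add i) = x
    rw [← Ext.comp_assoc_of_second_deg_zero, Ext.mk₀_comp_mk₀, Iso.hom_inv_id, Ext.mk₀_id_comp]
  right_inv y := by
    change (Ext.mk₀ (kappa g').inv).comp ((Ext.mk₀ (kappa g').hom).comp y (zero_add i))
      (zero_add i) = y
    rw [← Ext.comp_assoc_of_second_deg_zero, Ext.mk₀_comp_mk₀, Iso.inv_hom_id, Ext.mk₀_id_comp]
  map_add' x y := Ext.comp_add _ _ _ _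

lemma extLZUTopEquiv_comp {G : Sheaf (JX X') AddCommGrpCat.{u}} (i : ℕ)
    (w : Ext.{u} ((Lg g').obj (ZU (JX X) ⊤)) G i) (σ : G ⟶ G) :
    extLZUTopEquiv g' G i (w.comp (Ext.mk₀ σ) (add_zero i)) =
      Sheaf.H.map σ i (extLZUTopEquiv g' G i w) := by
  change (Ext.mk₀ (kappa g').inv).comp (w.comp (Ext.mk₀ σ) (add_zero i)) (zero_add i) =
    ((Ext.mk₀ (kappa g').inv).comp w (zero_add i)).comp (Ext.mk₀ σ) (add_zero i)
  rw [Ext.comp_assoc_of_third_deg_zero]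

end Groth.Agent.LD.FBC
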