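import Groth.Agent.Lib.Lead.FBC.Base2
import Groth.Agent.Lib.Lead.QCQS.Induction

/-! # Flat base change: Mayer–Vietoris induction. -/

universe u
open CategoryTheory Limits Opposite Abelian TopologicalSpace AlgebraicGeometry TensorProduct

namespace Groth.Agent.LD.FBC
open Groth.Agent.LD.SC Groth.Agent.LD.QC

variable {X' X : Scheme.{u}} (g' : X' ⟶ X) (F : X.Modules)
variable {A B : Type u} [CommRing A] [CommRing B] [Algebra A B]
  (τ : A →+* Coh.Γtop X) (τ' : B →+* Coh.Γtop X')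
  (hτ : ∀ r : A, g'.appTop (τ r) = τ' (algebraMap A B r))

/-- the comparison maps for `ℤ_U` are bijective in all degrees. -/
def PU (U : X.Opens) : Prop :=
  ThetaBij (Lg g') (ρA F τ) (psi g' F τ') (psi_smul g' F τ τ' hτ) (ZU (JX X) U)

variable [Module.Flat A B]

theorem PU_sup (U V : X.Opens) (hU : PU g' F τ τ' hτ U) (hV : PU g' F τ τ' hτ V)
    (hUV : PU g' F τ τ' hτ (U ⊓ V)) : PU g' F τ τ' hτ (U ⊔ V) := by
  let S := Opens.mayerVietorisSquare U V
  exact thetaBij_X₃ (Lg g') (ρA F τ) (psi g' F τ') (psi_smul g' F τ τ' hτ)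
    S.shortComplex_shortExact hUV
    (thetaBij_biprod (Lg g') (ρA F τ) (psi g' F τ') (psi_smul g' F τ τ' hτ) hU hV)

/-- Mayer–Vietoris induction: if `PU` holds on affine opens, it holds on all quasi-compact
quasi-separated opens. -/
theorem PU_of_affine (h_aff : ∀ U : X.Opens, IsAffineOpen U → PU g' F τ τ' hτ U)
    (O : X.Opens) (hO : IsCompact (O : Set X)) (hqs : IsQuasiSeparated (O : Set X)) :
    PU g' F τ τ' hτ O :=
  QCQS.mv_induction (PU g' F τ τ' hτ) (fun U V h1 h2 h3 => PU_sup g' F τ τ' hτ U V h1 h2 h3)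
    h_aff O hO hqs

end Groth.Agent.LD.FBC
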