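import Groth.Agent.Lib.Lead.FBC.AffineSec
import Groth.Agent.Lib.Lead.SC.Global
import Groth.Agent.Lib.Lead.QC.Pullback

/-! # Flat base change over an affine base. -/

universe u
open CategoryTheory Limits Opposite Abelian TopologicalSpace AlgebraicGeometry TensorProduct

namespace Groth.Agent.LD.FBC
open Groth.Agent.LD.SC Groth.Agent.LD.QC

variable {A B : Type u} [CommRing A] [CommRing B] [Algebra A B]
variable {X' X : Scheme.{u}} (f : X ⟶ Spec (CommRingCat.of A)) (f' : X' ⟶ Spec (CommRingCat.of B))
  (g' : X' ⟶ X)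
  (h : IsPullback g' f' f (Spec.map (CommRingCat.ofHom (algebraMap A B))))

include h in
/-- the comparison maps are bijective on every quasi-compact quasi-separated open. -/
theorem PU_of_isCompact [Module.Flat A B] (F : X.Modules) [F.IsQuasicoherent] (O : X.Opens)
    (hO : IsCompact (O : Set X)) (hqs : IsQuasiSeparated (O : Set X)) :
    PU g' F (Coh.toGlobal f) (Coh.toGlobal f') (toGlobal_compat f f' g' h) O := by
  haveI := isAffineHom_of_isPullback f f' g' h
  haveI : ((Scheme.Modules.pullback g').obj F).IsQuasicoherent := qc_pullback g' F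
  refine PU_of_affine g' F _ _ _ (fun U hU => ?_) O hO hqs
  exact thetaBij_ZU g' F _ _ _ U (bijective_secMap f f' g' h F U hU)
    (fun n => subsingleton_ext_of_isAffineOpen F n U hU)
    (fun n => subsingleton_ext_of_isAffineOpen ((Scheme.Modules.pullback g').obj F) n _
      (hU.preimage g'))

section Final

variable (F : X.Modules)

/-- `H^i(X, F) ≃ₗ[A] Ext^i(ℤ_X, F)`. -/
noncomputable def HHEquivExtA (τ : A →+* Coh.Γtop X) (i : ℕ) :
    letI : Module A (Coh.HH X F i) := Module.compHom (Coh.HH X F i) τ
    Coh.HH X F i ≃ₗ[A] ExtA (ρA F τ) (ZU (JX X) ⊤) i :=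
  letI : Module A (Coh.HH X F i) := Module.compHom (Coh.HH X F i) τ
  { HEquiv (J := JX X) isTerminalTop (Coh.toAb F) i with
    map_smul' := fun r x => by
      change (Ext.mk₀ (ZUIsoConst (J := JX X) isTerminalTop).hom).comp
          (Sheaf.H.map (Coh.smulAb F (τ r)) i x) (zero_add i) =
        ((Ext.mk₀ (ZUIsoConst (J := JX X) isTerminalTop).hom).comp x (zero_add i)).comp
          (Ext.mk₀ (ρA F τ r)) (add_zero i)
      rw [Sheaf.H.map_apply, Ext.comp_assoc_of_third_deg_zero]
      rfl }

end Final

end Groth.Agent.LD.FBC
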