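import Groth.Agent.Lib.Lead.FBC.BC0
import Groth.Agent.Lib.Lead.FBC.TensorFive
import Groth.Agent.Lib.Lead.QC.Extend
import Groth.Agent.Lib.Lead.QC.Compact
import Groth.Agent.Lib.Lead.FBC.AlgPushout
import Mathlib.AlgebraicGeometry.Morphisms.Flat

/-! # Base change of sections over opens: the comparison map
`Γ(S', V') ⊗_{Γ(S, V)} Γ(F, W) → Γ(g'^* F, W')`. -/

universe u
open CategoryTheory Opposite TopologicalSpace AlgebraicGeometry TensorProduct
open AlgebraicGeometry.Scheme.Modules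

namespace Groth.Agent.LD.FBC
open Groth.Agent.LD.QC

variable {X S X' S' : Scheme.{u}} (f : X ⟶ S) (g : S' ⟶ S) (f' : X' ⟶ S') (g' : X' ⟶ X)
  (w : g' ≫ f = f' ≫ g) (F : X.Modules) (V : S.Opens) (V' : S'.Opens) (e : V' ≤ g ⁻¹ᵁ V)
  [Algebra Γ(S, V) Γ(S', V')]
  (halg : ∀ a : Γ(S, V), algebraMap Γ(S, V) Γ(S', V') a = g.appLE V V' e a)

/-- sections of `F` over `W ⊆ f⁻¹V`, as a `Γ(S, V)`-module. -/
def GamW (W : X.Opens) (_hW : W ≤ f ⁻¹ᵁ V) : Type u := Γ(F, W)

noncomputable instance (W : X.Opens) (hW : W ≤ f ⁻¹ᵁ V) : AddCommGroup (GamW f F V W hW) :=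
  inferInstanceAs (AddCommGroup Γ(F, W))

noncomputable instance (W : X.Opens) (hW : W ≤ f ⁻¹ᵁ V) : Module Γ(S, V) (GamW f F V W hW) :=
  Module.compHom (R := Γ(X, W)) Γ(F, W) (f.appLE V W hW).hom

lemma GamW.smul_def (W : X.Opens) (hW : W ≤ f ⁻¹ᵁ V) (a : Γ(S, V)) (s : GamW f F V W hW) :
    a • s = (show Γ(F, W) from (f.appLE V W hW a) • (show Γ(F, W) from s)) := rfl

include w halg in
lemma appLE_compat {W : X.Opens} (hW : W ≤ f ⁻¹ᵁ V) {W' : X'.Opens} (h1 : W' ≤ g' ⁻¹ᵁ W)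
    (h2 : W' ≤ f' ⁻¹ᵁ V') (a : Γ(S, V)) :
    g'.appLE W W' h1 (f.appLE V W hW a) =
      f'.appLE V' W' h2 (algebraMap Γ(S, V) Γ(S', V') a) := by
  rw [halg]
  have e1 : f.appLE V W hW ≫ g'.appLE W W' h1 =
      (g' ≫ f).appLE V W' (fun x hx => hW (h1 hx)) := Scheme.Hom.appLE_comp_appLE ..
  have e2 : g.appLE V V' e ≫ f'.appLE V' W' h2 =
      (f' ≫ g).appLE V W' (fun x hx => e (h2 hx)) := Scheme.Hom.appLE_comp_appLE ..
  have e3 : (g' ≫ f).appLE V W' (fun x hx => hW (h1 hx)) =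
      (f' ≫ g).appLE V W' (fun x hx => e (h2 hx)) := by
    congr 1
  exact (congr($e1 a)).trans ((congr($e3 a)).trans (congr($e2 a)).symm)

variable {W : X.Opens} (hW : W ≤ f ⁻¹ᵁ V) {W' : X'.Opens} (h1 : W' ≤ g' ⁻¹ᵁ W)
  (h2 : W' ≤ f' ⁻¹ᵁ V')

/-- the bilinear map underlying `secBC`. -/
noncomputable def secBCAux :
    Γ(S', V') →+ GamW f F V W hW →+ Γ((pullback g').obj F, W') where
  toFun b :=
    { toFun := fun s => (f'.appLE V' W' h2 b) • pbSec g' F h1 s
      map_zero' := by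
        change (f'.appLE V' W' h2 b) • pbSec g' F h1 (0 : Γ(F, W)) = 0
        rw [pbSec_zero, smul_zero]
      map_add' := fun s s' => by
        change _ • pbSec g' F h1 ((show Γ(F, W) from s) + (show Γ(F, W) from s')) = _
        rw [pbSec_add, smul_add] }
  map_zero' := by
    ext s
    change (f'.appLE V' W' h2 0) • pbSec g' F h1 s = 0
    rw [map_zero, zero_smul]
  map_add' b b' := by
    ext s
    change (f'.appLE V' W' h2 (b + b')) • pbSec g' F h1 s =
      (f'.appLE V' W' h2 b) • pbSec g' F h1 s + (f'.appLE V' W' h2 b') • pbSec g' F h1 s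
    rw [map_add, add_smul]

include w halg in
lemma secBCAux_smul (a : Γ(S, V)) (b : Γ(S', V')) (s : GamW f F V W hW) :
    secBCAux f f' g' F V V' hW h1 h2 (a • b) s = secBCAux f f' g' F V V' hW h1 h2 b (a • s) := by
  change (f'.appLE V' W' h2 (a • b)) • pbSec g' F h1 s =
    (f'.appLE V' W' h2 b) • pbSec g' F h1 ((f.appLE V W hW a) • (show Γ(F, W) from s))
  rw [pbSec_smul, appLE_compat f g f' g' w V V' e halg hW h1 h2, Algebra.smul_def, mul_comm,
    map_mul, mul_smul]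

/-- the comparison map on sections: `Γ(S', V') ⊗ Γ(F, W) → Γ(g'^* F, W')`. -/
noncomputable def secBC :
    Γ(S', V') ⊗[Γ(S, V)] GamW f F V W hW →+ Γ((pullback g').obj F, W') :=
  TensorProduct.liftAddHom (secBCAux f f' g' F V V' hW h1 h2)
    (secBCAux_smul f g f' g' w F V V' e halg hW h1 h2)

lemma secBC_tmul (b : Γ(S', V')) (s : GamW f F V W hW) :
    secBC f g f' g' w F V V' e halg hW h1 h2 (b ⊗ₜ s) =
      (f'.appLE V' W' h2 b) • pbSec g' F h1 s := rfl

noncomputable instance instModuleΓGamW (W : X.Opens) (hW : W ≤ f ⁻¹ᵁ V) :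
    Module Γ(X, W) (GamW f F V W hW) :=
  inferInstanceAs (Module Γ(X, W) Γ(F, W))

include w halg in
/-- **affine case**: for a cartesian square and affine opens, the comparison map on sections is
bijective. -/
theorem bijective_secBC_of_isAffineOpen (H : IsPullback g' f' f g) [F.IsQuasicoherent]
    (hV : IsAffineOpen V) (hV' : IsAffineOpen V') (hWa : IsAffineOpen W)
    (hW' : W' = g' ⁻¹ᵁ W ⊓ f' ⁻¹ᵁ V') :
    Function.Bijective (secBC f g f' g' w F V V' e halg hW h1 h2) := by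
  have hpoI := isIso_pushoutSection_of_isAffineOpen H e hW hW' hV hV' hWa
  have hpo := (isIso_pushoutSection_iff H e hW hW').mp hpoI
  have hW'a : IsAffineOpen W' := by
    haveI : IsAffine _ := hV
    haveI : IsAffine _ := hV'
    haveI : IsAffine _ := hWa
    exact .of_isIso (Scheme.Hom.isPullback_resLE H e hW hW').isoPullback.hom
  letI algAR : Algebra Γ(S, V) Γ(X, W) := (f.appLE V W hW).hom.toAlgebra
  letI algBR' : Algebra Γ(S', V') Γ(X', W') := (f'.appLE V' W' h2).hom.toAlgebra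
  letI algRR' : Algebra Γ(X, W) Γ(X', W') := (g'.appLE W W' h1).hom.toAlgebra
  letI algAR' : Algebra Γ(S, V) Γ(X', W') :=
    ((algebraMap Γ(S', V') Γ(X', W')).comp (algebraMap Γ(S, V) Γ(S', V'))).toAlgebra
  haveI : IsScalarTower Γ(S, V) Γ(S', V') Γ(X', W') := IsScalarTower.of_algebraMap_eq' rfl
  haveI : IsScalarTower Γ(S, V) Γ(X, W) Γ(X', W') :=
    IsScalarTower.of_algebraMap_eq (fun a =>
      (appLE_compat f g f' g' w V V' e halg hW h1 h2 a).symm)
  have halg' : CommRingCat.ofHom (algebraMap Γ(S, V) Γ(S', V')) = g.appLE V V' e := by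
    ext a
    exact halg a
  haveI : Algebra.IsPushout Γ(S, V) Γ(S', V') Γ(X, W) Γ(X', W') := by
    apply CommRingCat.isPushout_iff_isPushout.mp
    rw [halg']
    exact hpo.flip
  letI : Module Γ(X, W) Γ((pullback g').obj F, W') := pbModule g' F h1
  haveI := pbModule_isScalarTower g' F h1
  have hbc := isBaseChange_pbSec g' hW'a hWa h1 F
  exact bijective_of_isPushout_of_isBaseChange (A := Γ(S, V)) (B := Γ(S', V')) (R := Γ(X, W))
    (R' := Γ(X', W')) (N := GamW f F V W hW)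
    (N' := Γ((pullback g').obj F, W')) (pbSecₗ g' F h1) hbc
    (fun r n => rfl)
    (secBC f g f' g' w F V V' e halg hW h1 h2)
    (fun b n => rfl)

end Groth.Agent.LD.FBC
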