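import Groth.Agent.Lib.Lead.FBC.SecBCSup
import Groth.Agent.Lib.Lead.QCQS.Induction
import Groth.Agent.Lib.Lead.QC.SheafIso

/-! # Base change of sections: the main results and the criterion for `bc0`. -/

universe u
open CategoryTheory Opposite TopologicalSpace AlgebraicGeometry TensorProduct
open AlgebraicGeometry.Scheme.Modules

namespace Groth.Agent.LD.FBC
open Groth.Agent.LD.QC

variable {X S X' S' : Scheme.{u}} (f : X ⟶ S) (g : S' ⟶ S) (f' : X' ⟶ S') (g' : X' ⟶ X)
  (w : g' ≫ f = f' ≫ g) (F : X.Modules)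

section Flat
variable (V : S.Opens) (V' : S'.Opens) (e : V' ≤ g ⁻¹ᵁ V)
  [Algebra Γ(S, V) Γ(S', V')]
  (halg : ∀ a : Γ(S, V), algebraMap Γ(S, V) Γ(S', V') a = g.appLE V V' e a)

/-- **flat base change of sections**: for a cartesian square, affine `V' ⊆ g⁻¹V`, flat
`Γ(S, V) → Γ(S', V')` and quasi-coherent `F`, the comparison map is bijective on every
quasi-compact quasi-separated open `O ⊆ f⁻¹V`. -/
theorem PW_of_isCompact (H : IsPullback g' f' f g) [F.IsQuasicoherent]
    (hV : IsAffineOpen V) (hV' : IsAffineOpen V') [Module.Flat Γ(S, V) Γ(S', V')]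
    (O : X.Opens) (hO : IsCompact (O : Set X)) (hqs : IsQuasiSeparated (O : Set X)) :
    PW f g f' g' w F V V' e halg O :=
  QCQS.mv_induction (PW f g f' g' w F V V' e halg)
    (fun U₁ U₂ p₁ p₂ p₁₂ => PW_sup f g f' g' w F V V' e halg U₁ U₂ p₁ p₂ p₁₂)
    (fun U hU hUV => bijective_secBC_of_isAffineOpen f g f' g' w F V V' e halg hUV
      inf_le_left inf_le_right H hV hV' hU rfl) O hO hqs

omit [Algebra Γ(S, V) Γ(S', V')] in
include w e in
lemma preimage_eq_prW : f' ⁻¹ᵁ V' = prW f' g' V' (f ⁻¹ᵁ V) :=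
  le_antisymm (le_inf (preimage_le_of_le f g f' g' w e) le_rfl) inf_le_right

/-- transport along an equality of the open of `X'`. -/
lemma bijective_secBC_of_eq {W : X.Opens} (hW : W ≤ f ⁻¹ᵁ V) {W' : X'.Opens}
    (h1 : W' ≤ g' ⁻¹ᵁ W) (h2 : W' ≤ f' ⁻¹ᵁ V') (hW' : W' = prW f' g' V' W)
    (hP : PW f g f' g' w F V V' e halg W) :
    Function.Bijective (secBC f g f' g' w F V V' e halg hW h1 h2) := by
  subst hW'
  exact hP hW

end Flat

section Criterion

/-- the identity `Γ(f_* F, V) → Γ(F, f⁻¹V)` as a linear equivalence. -/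
noncomputable def idL (V : S.Opens) :
    Γ((pushforward f).obj F, V) ≃ₗ[Γ(S, V)] GamW f F V (f ⁻¹ᵁ V) le_rfl :=
  { AddEquiv.refl Γ(F, f ⁻¹ᵁ V) with
    map_smul' := fun a s => by
      change (f.app V a) • (show Γ(F, f ⁻¹ᵁ V) from s) =
        (f.appLE V (f ⁻¹ᵁ V) le_rfl a) • (show Γ(F, f ⁻¹ᵁ V) from s)
      rw [Scheme.Hom.appLE_eq_app] }

/-- **criterion**: the degree-zero base change map is an isomorphism as soon as `f_* F` is
quasi-coherent and the comparison maps on sections are bijective for affine `V' ⊆ g⁻¹V`. -/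
theorem isIso_bc0_of_bijective [hqc : ((pushforward f).obj F).IsQuasicoherent]
    (hbij : ∀ (V : S.Opens) (V' : S'.Opens) (e : V' ≤ g ⁻¹ᵁ V), IsAffineOpen V →
      IsAffineOpen V' →
      letI : Algebra Γ(S, V) Γ(S', V') := (g.appLE V V' e).hom.toAlgebra
      Function.Bijective (secBC f g f' g' w F V V' e (fun _ => rfl) (le_refl (f ⁻¹ᵁ V))
        (preimage_le_of_le f g f' g' w e) (le_refl (f' ⁻¹ᵁ V')))) :
    IsIso (CohBC.bc0 f g f' g' w F) := by
  apply isIso_of_local_bijective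
  intro x W hx
  obtain ⟨V, hV, hxV, -⟩ := exists_isAffineOpen_mem_and_subset (x := g x) (U := ⊤) trivial
  obtain ⟨V', hV', hxV', hV'W⟩ := exists_isAffineOpen_mem_and_subset (x := x)
    (U := g ⁻¹ᵁ V ⊓ W) ⟨hxV, hx⟩
  have e : V' ≤ g ⁻¹ᵁ V := fun y hy => (hV'W hy).1
  refine ⟨V', hxV', fun y hy => (hV'W hy).2, ?_⟩
  have hb := hbij V V' e hV hV'
  letI alg : Algebra Γ(S, V) Γ(S', V') := (g.appLE V V' e).hom.toAlgebra
  letI := pbModule g ((pushforward f).obj F) e
  haveI := pbModule_isScalarTower g ((pushforward f).obj F) e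
  have hbc := isBaseChange_pbSec g hV' hV e ((pushforward f).obj F)
  have key : ((CohBC.bc0 f g f' g' w F).app V').hom.comp
      hbc.equiv.toLinearMap.toAddMonoidHom =
      (secBC f g f' g' w F V V' e (fun _ => rfl) (le_refl (f ⁻¹ᵁ V))
        (preimage_le_of_le f g f' g' w e) (le_refl (f' ⁻¹ᵁ V'))).comp
        ((idL f F V).toLinearMap.lTensor Γ(S', V')).toAddMonoidHom := by
    apply addHom_ext_tmul
    intro b n
    change (CohBC.bc0 f g f' g' w F).app V' (hbc.equiv (b ⊗ₜ n)) =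
      secBC f g f' g' w F V V' e (fun _ => rfl) (le_refl (f ⁻¹ᵁ V))
        (preimage_le_of_le f g f' g' w e) (le_refl (f' ⁻¹ᵁ V')) (b ⊗ₜ (idL f F V n))
    rw [IsBaseChange.equiv_tmul, secBC_tmul]
    refine (Scheme.Modules.Hom.app_smul (CohBC.bc0 f g f' g' w F) b _).trans ?_
    change b • (CohBC.bc0 f g f' g' w F).app V' (pbSec g ((pushforward f).obj F) e n) = _
    rw [bc0_pbSec, Scheme.Hom.appLE_eq_app]
    rfl
  have hfun : ((CohBC.bc0 f g f' g' w F).app V' : _ → _) =
      (secBC f g f' g' w F V V' e (fun _ => rfl) (le_refl (f ⁻¹ᵁ V))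
        (preimage_le_of_le f g f' g' w e) (le_refl (f' ⁻¹ᵁ V'))) ∘
      ((idL f F V).lTensor Γ(S', V')) ∘ hbc.equiv.symm := by
    funext y
    have := DFunLike.congr_fun key (hbc.equiv.symm y)
    change (CohBC.bc0 f g f' g' w F).app V' (hbc.equiv (hbc.equiv.symm y)) = _ at this
    rw [LinearEquiv.apply_symm_apply] at this
    exact this
  rw [hfun]
  exact hb.comp (((idL f F V).lTensor Γ(S', V')).bijective.comp hbc.equiv.symm.bijective)

end Criterion

end Groth.Agent.LD.FBC
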