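import Groth.Agent.Lib.Lead.FBC.SecBC
import Mathlib.LinearAlgebra.TensorProduct.Prod

/-! # Base change of sections: the Mayer–Vietoris step. -/

universe u
open CategoryTheory Opposite TopologicalSpace AlgebraicGeometry TensorProduct
open AlgebraicGeometry.Scheme.Modules

namespace Groth.Agent.LD.FBC
open Groth.Agent.LD.QC

lemma addHom_ext_tmul {R M N P : Type*} [CommSemiring R] [AddCommMonoid M] [AddCommMonoid N]
    [Module R M] [Module R N] [AddCommMonoid P] (φ ψ : M ⊗[R] N →+ P)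
    (h : ∀ m n, φ (m ⊗ₜ n) = ψ (m ⊗ₜ n)) : φ = ψ := by
  ext z
  induction z using TensorProduct.induction_on with
  | zero => rw [map_zero, map_zero]
  | add x y hx hy => rw [map_add, map_add, hx, hy]
  | tmul m n => exact h m n

section MVsec
variable {Y : Scheme.{u}} (M : Y.Modules) {W U₁ U₂ I : Y.Opens}

/-- restriction of sections as an additive map. -/
noncomputable def resAdd {U U' : Y.Opens} (h : U' ≤ U) : Γ(M, U) →+ Γ(M, U') :=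
  (M.presheaf.map (homOfLE h).op).hom

lemma resAdd_apply {U U' : Y.Opens} (h : U' ≤ U) (s : Γ(M, U)) :
    resAdd M h s = M.presheaf.map (homOfLE h).op s := rfl

variable (h₁ : U₁ ≤ W) (h₂ : U₂ ≤ W) (hc : W ≤ U₁ ⊔ U₂) (k₁ : I ≤ U₁) (k₂ : I ≤ U₂)
  (hI : U₁ ⊓ U₂ ≤ I)

/-- `s ↦ (s|U₁, s|U₂)`. -/
noncomputable def mvα : Γ(M, W) →+ Γ(M, U₁) × Γ(M, U₂) := (resAdd M h₁).prod (resAdd M h₂)

/-- `(s, t) ↦ s|I - t|I`. -/
noncomputable def mvβ : Γ(M, U₁) × Γ(M, U₂) →+ Γ(M, I) :=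
  (resAdd M k₁).comp (AddMonoidHom.fst _ _) - (resAdd M k₂).comp (AddMonoidHom.snd _ _)

include hc in
lemma mvα_injective : Function.Injective (mvα M h₁ h₂) := by
  intro s s' hss
  have e1 : resAdd M h₁ s = resAdd M h₁ s' := congrArg Prod.fst hss
  have e2 : resAdd M h₂ s = resAdd M h₂ s' := congrArg Prod.snd hss
  exact section_ext_of_cover2 M h₁ h₂ hc s s' e1 e2

include hc hI in
lemma mv_exact : Function.Exact (mvα M h₁ h₂) (mvβ M k₁ k₂) := by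
  intro p
  constructor
  · intro hp
    obtain ⟨s, t⟩ := p
    have hp' : M.presheaf.map (homOfLE k₁).op s - M.presheaf.map (homOfLE k₂).op t = 0 := hp
    replace hp' := sub_eq_zero.mp hp'
    obtain ⟨z, hz1, hz2⟩ := glue2 M s t (by
      have e := congr(M.presheaf.map (homOfLE hI).op $hp')
      rw [res_res, res_res] at e
      exact e)
    refine ⟨M.presheaf.map (homOfLE hc).op z, ?_⟩
    refine Prod.ext ?_ ?_
    · change M.presheaf.map (homOfLE h₁).op (M.presheaf.map (homOfLE hc).op z) = s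
      rw [res_res]
      exact hz1
    · change M.presheaf.map (homOfLE h₂).op (M.presheaf.map (homOfLE hc).op z) = t
      rw [res_res]
      exact hz2
  · rintro ⟨s, rfl⟩
    change M.presheaf.map (homOfLE k₁).op (M.presheaf.map (homOfLE h₁).op s) -
      M.presheaf.map (homOfLE k₂).op (M.presheaf.map (homOfLE h₂).op s) = 0
    rw [res_res, res_res, sub_self]

end MVsec

variable {X S X' S' : Scheme.{u}} (f : X ⟶ S) (g : S' ⟶ S) (f' : X' ⟶ S') (g' : X' ⟶ X)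
  (w : g' ≫ f = f' ≫ g) (F : X.Modules) (V : S.Opens) (V' : S'.Opens) (e : V' ≤ g ⁻¹ᵁ V)
  [Algebra Γ(S, V) Γ(S', V')]
  (halg : ∀ a : Γ(S, V), algebraMap Γ(S, V) Γ(S', V') a = g.appLE V V' e a)

/-- restriction `Γ(F, W₁) → Γ(F, W₂)` as a `Γ(S, V)`-linear map. -/
noncomputable def resW {W₁ W₂ : X.Opens} (hW₁ : W₁ ≤ f ⁻¹ᵁ V) (hW₂ : W₂ ≤ f ⁻¹ᵁ V)
    (hle : W₂ ≤ W₁) : GamW f F V W₁ hW₁ →ₗ[Γ(S, V)] GamW f F V W₂ hW₂ where
  toFun s := F.presheaf.map (homOfLE hle).op (show Γ(F, W₁) from s)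
  map_add' s s' := map_add (F.presheaf.map (homOfLE hle).op).hom _ _
  map_smul' a s := by
    change F.presheaf.map (homOfLE hle).op ((f.appLE V W₁ hW₁ a) • (show Γ(F, W₁) from s)) =
      (f.appLE V W₂ hW₂ a) • F.presheaf.map (homOfLE hle).op (show Γ(F, W₁) from s)
    rw [smul_res]
    congr 1
    have := Scheme.Hom.appLE_map f hW₁ (homOfLE hle).op
    exact congr($this a)

lemma resW_apply {W₁ W₂ : X.Opens} (hW₁ : W₁ ≤ f ⁻¹ᵁ V) (hW₂ : W₂ ≤ f ⁻¹ᵁ V)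
    (hle : W₂ ≤ W₁) (s : GamW f F V W₁ hW₁) :
    resW f F V hW₁ hW₂ hle s = F.presheaf.map (homOfLE hle).op (show Γ(F, W₁) from s) := rfl

/-- the comparison map is compatible with restriction. -/
lemma secBC_res {W₁ W₂ : X.Opens} (hW₁ : W₁ ≤ f ⁻¹ᵁ V) (hW₂ : W₂ ≤ f ⁻¹ᵁ V)
    (hle : W₂ ≤ W₁) {W₁' W₂' : X'.Opens} (h1 : W₁' ≤ g' ⁻¹ᵁ W₁) (h2 : W₁' ≤ f' ⁻¹ᵁ V')
    (h1' : W₂' ≤ g' ⁻¹ᵁ W₂) (h2' : W₂' ≤ f' ⁻¹ᵁ V') (hle' : W₂' ≤ W₁')
    (z : Γ(S', V') ⊗[Γ(S, V)] GamW f F V W₁ hW₁) :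
    ((pullback g').obj F).presheaf.map (homOfLE hle').op
      (secBC f g f' g' w F V V' e halg hW₁ h1 h2 z) =
      secBC f g f' g' w F V V' e halg hW₂ h1' h2' ((resW f F V hW₁ hW₂ hle).lTensor _ z) := by
  have key : (resAdd ((pullback g').obj F) hle').comp
      (secBC f g f' g' w F V V' e halg hW₁ h1 h2) =
      (secBC f g f' g' w F V V' e halg hW₂ h1' h2').comp
        ((resW f F V hW₁ hW₂ hle).lTensor Γ(S', V')).toAddMonoidHom := by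
    apply addHom_ext_tmul
    intro b s
    change ((pullback g').obj F).presheaf.map (homOfLE hle').op
      (secBC f g f' g' w F V V' e halg hW₁ h1 h2 (b ⊗ₜ s)) =
      secBC f g f' g' w F V V' e halg hW₂ h1' h2'
        ((resW f F V hW₁ hW₂ hle).lTensor Γ(S', V') (b ⊗ₜ s))
    rw [LinearMap.lTensor_tmul, secBC_tmul, secBC_tmul, smul_res, resW_apply]
    congr 1
    · have := Scheme.Hom.appLE_map f' h2 (homOfLE hle').op
      exact congr($this b)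
    · exact (pbSec_res g' F h1 h1' hle' hle s).symm
  exact DFunLike.congr_fun key z

/-- the canonical open `g'⁻¹W ∩ f'⁻¹V'`. -/
abbrev prW (W : X.Opens) : X'.Opens := g' ⁻¹ᵁ W ⊓ f' ⁻¹ᵁ V'

/-- the comparison map on sections over `W` is bijective. -/
def PW (W : X.Opens) : Prop :=
  ∀ hW : W ≤ f ⁻¹ᵁ V, Function.Bijective (secBC f g f' g' w F V V' e halg hW
    (inf_le_left : prW f' g' V' W ≤ g' ⁻¹ᵁ W) inf_le_right)

lemma prW_mono {W₁ W₂ : X.Opens} (h : W₂ ≤ W₁) : prW f' g' V' W₂ ≤ prW f' g' V' W₁ :=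
  inf_le_inf_right _ (fun _ hx => h hx)

lemma prW_sup (U₁ U₂ : X.Opens) :
    prW f' g' V' (U₁ ⊔ U₂) ≤ prW f' g' V' U₁ ⊔ prW f' g' V' U₂ := by
  rintro x ⟨hx1, hx2⟩
  rcases hx1 with h | h
  · exact Or.inl ⟨h, hx2⟩
  · exact Or.inr ⟨h, hx2⟩

lemma prW_inf (U₁ U₂ : X.Opens) :
    prW f' g' V' U₁ ⊓ prW f' g' V' U₂ ≤ prW f' g' V' (U₁ ⊓ U₂) := by
  rintro x ⟨⟨h1, h2⟩, ⟨h3, -⟩⟩
  exact ⟨⟨h1, h3⟩, h2⟩

variable [Module.Flat Γ(S, V) Γ(S', V')]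

theorem PW_sup (U₁ U₂ : X.Opens) (p₁ : PW f g f' g' w F V V' e halg U₁)
    (p₂ : PW f g f' g' w F V V' e halg U₂) (p₁₂ : PW f g f' g' w F V V' e halg (U₁ ⊓ U₂)) :
    PW f g f' g' w F V V' e halg (U₁ ⊔ U₂) := by
  intro hW
  have hU₁ : U₁ ≤ f ⁻¹ᵁ V := le_sup_left.trans hW
  have hU₂ : U₂ ≤ f ⁻¹ᵁ V := le_sup_right.trans hW
  have hI : U₁ ⊓ U₂ ≤ f ⁻¹ᵁ V := inf_le_left.trans hU₁
  let G := (pullback g').obj F
  let r₁ := resW f F V hW hU₁ le_sup_left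
  let r₂ := resW f F V hW hU₂ le_sup_right
  let s₁ := resW f F V hU₁ hI inf_le_left
  let s₂ := resW f F V hU₂ hI inf_le_right
  let f₁ : GamW f F V (U₁ ⊔ U₂) hW →ₗ[Γ(S, V)] GamW f F V U₁ hU₁ × GamW f F V U₂ hU₂ :=
    r₁.prod r₂
  let f₂ : GamW f F V U₁ hU₁ × GamW f F V U₂ hU₂ →ₗ[Γ(S, V)] GamW f F V (U₁ ⊓ U₂) hI :=
    s₁.comp (LinearMap.fst _ _ _) - s₂.comp (LinearMap.snd _ _ _)
  let Ψ₁ := secBC f g f' g' w F V V' e halg hU₁
    (inf_le_left : prW f' g' V' U₁ ≤ g' ⁻¹ᵁ U₁) inf_le_right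
  let Ψ₂ := secBC f g f' g' w F V V' e halg hU₂
    (inf_le_left : prW f' g' V' U₂ ≤ g' ⁻¹ᵁ U₂) inf_le_right
  let i₂ : Γ(S', V') ⊗[Γ(S, V)] (GamW f F V U₁ hU₁ × GamW f F V U₂ hU₂) →+
      Γ(G, prW f' g' V' U₁) × Γ(G, prW f' g' V' U₂) :=
    (Ψ₁.comp ((LinearMap.fst Γ(S, V) _ _).lTensor Γ(S', V')).toAddMonoidHom).prod
      (Ψ₂.comp ((LinearMap.snd Γ(S, V) _ _).lTensor Γ(S', V')).toAddMonoidHom)
  refine tensor_left_exact (M := Γ(S', V')) f₁ f₂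
    (mvα G (prW_mono f' g' V' le_sup_left) (prW_mono f' g' V' le_sup_right))
    (mvβ G (prW_mono f' g' V' inf_le_left) (prW_mono f' g' V' inf_le_right))
    _ i₂ (secBC f g f' g' w F V V' e halg hI
      (inf_le_left : prW f' g' V' (U₁ ⊓ U₂) ≤ g' ⁻¹ᵁ (U₁ ⊓ U₂)) inf_le_right)
    ?_ ?_ ?_ ?_ ?_ ?_ ?_ (p₁₂ hI).1
  · -- hc₁
    intro z
    refine Prod.ext ?_ ?_
    · change G.presheaf.map _ _ = Ψ₁ ((LinearMap.fst Γ(S, V) _ _).lTensor Γ(S', V')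
        (f₁.lTensor Γ(S', V') z))
      rw [← LinearMap.lTensor_comp_apply, LinearMap.fst_prod]
      exact secBC_res f g f' g' w F V V' e halg hW hU₁ le_sup_left _ _ _ _ _ z
    · change G.presheaf.map _ _ = Ψ₂ ((LinearMap.snd Γ(S, V) _ _).lTensor Γ(S', V')
        (f₁.lTensor Γ(S', V') z))
      rw [← LinearMap.lTensor_comp_apply, LinearMap.snd_prod]
      exact secBC_res f g f' g' w F V V' e halg hW hU₂ le_sup_right _ _ _ _ _ z
  · -- hc₂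
    intro z
    change G.presheaf.map _ (Ψ₁ _) - G.presheaf.map _ (Ψ₂ _) = _
    rw [secBC_res f g f' g' w F V V' e halg hU₁ hI inf_le_left _ _
      (inf_le_left : prW f' g' V' (U₁ ⊓ U₂) ≤ g' ⁻¹ᵁ (U₁ ⊓ U₂)) inf_le_right,
      secBC_res f g f' g' w F V V' e halg hU₂ hI inf_le_right _ _
      (inf_le_left : prW f' g' V' (U₁ ⊓ U₂) ≤ g' ⁻¹ᵁ (U₁ ⊓ U₂)) inf_le_right,
      ← map_sub]
    congr 1
    simp only [LinearMap.toAddMonoidHom_coe]
    rw [← LinearMap.lTensor_comp_apply, ← LinearMap.lTensor_comp_apply,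
      ← LinearMap.sub_apply, ← LinearMap.lTensor_sub]
  · -- hf₁
    exact mv_exact F (le_sup_left : U₁ ≤ U₁ ⊔ U₂) le_sup_right le_rfl inf_le_left inf_le_right
      le_rfl
  · -- hg₁
    exact mv_exact G _ _ (prW_sup f' g' V' U₁ U₂) _ _ (prW_inf f' g' V' U₁ U₂)
  · exact mvα_injective F (le_sup_left : U₁ ≤ U₁ ⊔ U₂) le_sup_right le_rfl
  · exact mvα_injective G _ _ (prW_sup f' g' V' U₁ U₂)
  · -- hi₂
    have hcomp : (i₂ : _ → _) = (Prod.map Ψ₁ Ψ₂) ∘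
        (TensorProduct.prodRight Γ(S, V) Γ(S, V) Γ(S', V') (GamW f F V U₁ hU₁)
          (GamW f F V U₂ hU₂)) := by
      have : i₂ = (Ψ₁.prodMap Ψ₂).comp
          (TensorProduct.prodRight Γ(S, V) Γ(S, V) Γ(S', V') (GamW f F V U₁ hU₁)
            (GamW f F V U₂ hU₂)).toLinearMap.toAddMonoidHom := by
        apply addHom_ext_tmul
        intro b m
        rfl
      rw [this]
      rfl
    rw [hcomp]
    exact (Function.Bijective.prodMap (p₁ hU₁) (p₂ hU₂)).comp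
      (TensorProduct.prodRight Γ(S, V) Γ(S, V) Γ(S', V') _ _).bijective

end Groth.Agent.LD.FBC
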