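import Groth.Agent.Lib.Lead.FBC.SecTop
import Groth.Agent.Lib.Lead.FBC.AlgPushout2
import Groth.Agent.Lib.Lead.FF.SemiLocalAlg

/-! # Global sections of a flat base change as a base change of modules; descent of a
generating section over a semi-local ring of global functions. -/

universe u
open CategoryTheory Limits Opposite Abelian TopologicalSpace AlgebraicGeometry TensorProduct

namespace Groth.Agent.LD.FBC
open Groth.Agent.LD.SC Groth.Agent.LD.QC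

variable {A B : Type u} [CommRing A] [CommRing B] [Algebra A B]
variable {X' X : Scheme.{u}} (f : X ⟶ Spec (CommRingCat.of A)) (f' : X' ⟶ Spec (CommRingCat.of B))
  (g' : X' ⟶ X)
  (h : IsPullback g' f' f (Spec.map (CommRingCat.ofHom (algebraMap A B))))

include h in
/-- the CommRingCat pushout square of sections over a quasi-compact quasi-separated open. -/
lemma isPushout_sections_of_isCompact [Module.Flat A B] (U : X.Opens)
    (hU : IsCompact (U : Set X)) (hqs : IsQuasiSeparated (U : Set X)) :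
    IsPushout (f.appLE ⊤ U le_top)
      ((Spec.map (CommRingCat.ofHom (algebraMap A B))).appLE ⊤ ⊤ le_top)
      (g'.appLE U (g' ⁻¹ᵁ U) le_rfl) (f'.appLE ⊤ (g' ⁻¹ᵁ U) le_top) := by
  haveI : Flat (Spec.map (CommRingCat.ofHom (algebraMap A B))) := by
    rw [Flat.SpecMap_iff]
    exact (RingHom.flat_algebraMap_iff).mpr inferInstance
  have hUY : g' ⁻¹ᵁ U = g' ⁻¹ᵁ U ⊓ f' ⁻¹ᵁ ⊤ := by simp
  exact (isIso_pushoutSection_iff h (US := ⊤) (UT := ⊤) (UX := U) le_top le_top hUY).mp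
    (isIso_pushoutSection_of_isQuasiSeparated_of_flat_right h le_top le_top hUY
      (isAffineOpen_top _) (isAffineOpen_top _) hU hqs)

include h in
/-- the pushout square of sections over a quasi-compact quasi-separated open, over `A → B`. -/
lemma isPushout_sections'_of_isCompact [Module.Flat A B] (U : X.Opens)
    (hU : IsCompact (U : Set X)) (hqs : IsQuasiSeparated (U : Set X)) :
    IsPushout (CommRingCat.ofHom (algebraMap A B)) (CommRingCat.ofHom (algAΓ f U))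
      (CommRingCat.ofHom (algAΓ f' (g' ⁻¹ᵁ U))) (g'.appLE U (g' ⁻¹ᵁ U) le_rfl) := by
  refine (isPushout_sections_of_isCompact f f' g' h U hU hqs).flip.of_iso
    (Scheme.ΓSpecIso (CommRingCat.of A)) (Scheme.ΓSpecIso (CommRingCat.of B)) (Iso.refl _)
    (Iso.refl _) ?_ ?_ ?_ ?_
  · exact Scheme.ΓSpecIso_naturality (CommRingCat.ofHom (algebraMap A B))
  · rw [algAΓ_eq, Iso.hom_inv_id_assoc, Iso.refl_hom, Category.comp_id]
  · rw [algAΓ_eq, Iso.hom_inv_id_assoc, Iso.refl_hom, Category.comp_id]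
  · rw [Iso.refl_hom, Iso.refl_hom, Category.comp_id, Category.id_comp]

include h in
/-- **descent of a generating section**: `A → B` faithfully flat, `X` quasi-compact
quasi-separated over `A` with semi-local ring of global functions, `F` quasi-coherent on `X` whose
pullback to `X_B` has a global basis `e₀`. Then there is a global section `s` of `F` whose pullback
is a unit multiple of `e₀`. -/
theorem exists_section_isUnit [Module.FaithfullyFlat A B] [CompactSpace X]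
    [QuasiSeparatedSpace X] (hsl : Finite (MaximalSpectrum Γ(X, ⊤))) (F : X.Modules)
    [F.IsQuasicoherent] (e₀ : Γ((Scheme.Modules.pullback g').obj F, g' ⁻¹ᵁ ⊤))
    (he₀ : Function.Bijective (fun a : Γ(X', g' ⁻¹ᵁ ⊤) => a • e₀)) :
    ∃ (s : Γ(F, ⊤)) (u : Γ(X', g' ⁻¹ᵁ ⊤)), IsUnit u ∧ unitSec g' F ⊤ s = u • e₀ := by
  letI algAR : Algebra A Γ(X, ⊤) := (algAΓ f ⊤).toAlgebra
  letI algBR' : Algebra B Γ(X', g' ⁻¹ᵁ ⊤) := (algAΓ f' (g' ⁻¹ᵁ ⊤)).toAlgebra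
  letI algRR' : Algebra Γ(X, ⊤) Γ(X', g' ⁻¹ᵁ ⊤) :=
    (g'.appLE ⊤ (g' ⁻¹ᵁ ⊤) le_rfl).hom.toAlgebra
  letI algAR' : Algebra A Γ(X', g' ⁻¹ᵁ ⊤) :=
    ((algebraMap B Γ(X', g' ⁻¹ᵁ ⊤)).comp (algebraMap A B)).toAlgebra
  haveI : IsScalarTower A B Γ(X', g' ⁻¹ᵁ ⊤) := IsScalarTower.of_algebraMap_eq' rfl
  have hpo := isPushout_sections'_of_isCompact f f' g' h ⊤ isCompact_univ
    (isQuasiSeparated_univ_iff.mpr inferInstance)
  haveI : IsScalarTower A Γ(X, ⊤) Γ(X', g' ⁻¹ᵁ ⊤) :=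
    IsScalarTower.of_algebraMap_eq' (by
      have := hpo.w
      exact congrArg CommRingCat.Hom.hom this)
  haveI hPO : Algebra.IsPushout A B Γ(X, ⊤) Γ(X', g' ⁻¹ᵁ ⊤) :=
    CommRingCat.isPushout_iff_isPushout.mp hpo
  letI : Module Γ(X, ⊤) Γ((Scheme.Modules.pullback g').obj F, g' ⁻¹ᵁ ⊤) := pbModule g' F le_rfl
  haveI := pbModule_isScalarTower g' F (le_refl (g' ⁻¹ᵁ ⊤))
  have hbc : IsBaseChange Γ(X', g' ⁻¹ᵁ ⊤) (pbSecₗ g' F (le_refl (g' ⁻¹ᵁ ⊤))) :=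
    isBaseChange_of_isPushout_of_bijective (A := A) (B := B) (R := Γ(X, ⊤))
      (R' := Γ(X', g' ⁻¹ᵁ ⊤)) (N := GamA F (Coh.toGlobal f) ⊤)
      (N' := Γ((Scheme.Modules.pullback g').obj F, g' ⁻¹ᵁ ⊤)) (pbSecₗ g' F le_rfl)
      (fun r n => rfl)
      (secMap g' F (Coh.toGlobal f) (Coh.toGlobal f') (toGlobal_compat f f' g' h) ⊤)
      (fun b n => by
        rw [secMap_tmul]
        change _ = algAΓ f' (g' ⁻¹ᵁ ⊤) b • pbSec g' F le_rfl n
        rw [pbSec_le_rfl]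
        rfl)
      (bijective_secMap_top f f' g' h F)
  haveI : Module.FaithfullyFlat Γ(X, ⊤) Γ(X', g' ⁻¹ᵁ ⊤) :=
    Module.FaithfullyFlat.of_linearEquiv Γ(X, ⊤) (Γ(X, ⊤) ⊗[A] B) hPO.symm.out.equiv.symm
  let e : Γ((Scheme.Modules.pullback g').obj F, g' ⁻¹ᵁ ⊤) ≃ₗ[Γ(X', g' ⁻¹ᵁ ⊤)] Γ(X', g' ⁻¹ᵁ ⊤) :=
    (LinearEquiv.ofBijective (LinearMap.toSpanSingleton Γ(X', g' ⁻¹ᵁ ⊤)
      Γ((Scheme.Modules.pullback g').obj F, g' ⁻¹ᵁ ⊤) e₀) he₀).symm
  obtain ⟨s, hs⟩ := Groth.Agent.LD.FF.exists_generator_of_isBaseChange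
    (pbSecₗ g' F (le_refl (g' ⁻¹ᵁ ⊤))) hbc e
  -- every section of the pullback is a multiple of the pullback of `s`
  have hgen : ∀ t : Γ((Scheme.Modules.pullback g').obj F, g' ⁻¹ᵁ ⊤),
      ∃ c : Γ(X', g' ⁻¹ᵁ ⊤), t = c • pbSec g' F (le_refl (g' ⁻¹ᵁ ⊤)) s := by
    intro t
    refine hbc.inductionOn t (fun t => ∃ c : Γ(X', g' ⁻¹ᵁ ⊤),
      t = c • pbSec g' F (le_refl (g' ⁻¹ᵁ ⊤)) s) ⟨0, (zero_smul _ _).symm⟩ ?_ ?_ ?_
    · intro m
      obtain ⟨r, rfl⟩ := hs m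
      refine ⟨(g'.appLE ⊤ (g' ⁻¹ᵁ ⊤) le_rfl).hom r, ?_⟩
      exact pbSec_smul g' F le_rfl r s
    · rintro c' n ⟨c, rfl⟩
      exact ⟨c' * c, (mul_smul _ _ _).symm⟩
    · rintro n₁ n₂ ⟨c₁, rfl⟩ ⟨c₂, rfl⟩
      exact ⟨c₁ + c₂, (add_smul _ _ _).symm⟩
  obtain ⟨c, hc⟩ := hgen e₀
  obtain ⟨u, hu⟩ := he₀.2 (pbSec g' F (le_refl (g' ⁻¹ᵁ ⊤)) s)
  have hu' : u • e₀ = pbSec g' F (le_refl (g' ⁻¹ᵁ ⊤)) s := hu
  refine ⟨s, u, ?_, ?_⟩
  · have h1 : (c * u) • e₀ = (1 : Γ(X', g' ⁻¹ᵁ ⊤)) • e₀ := by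
      rw [mul_smul, hu', ← hc, one_smul]
    have h2 : c * u = 1 := he₀.1 h1
    exact .of_mul_eq_one _ (by rw [mul_comm]; exact h2)
  · rw [hu', pbSec_le_rfl]

end Groth.Agent.LD.FBC
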